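import Cfsg.Agent.H190.Cov.Two.Rad3c
import Cfsg.Agent.H175.BdSp_m3
import Cfsg.Agent.H453.OddM.Real_m3
import Cfsg.Agent.H129.RealT_m3
import Cfsg.Agent.BpExc.AsmN_m3
import Cfsg.Agent.H129.CycCard
import Cfsg.Agent.H56.Exc.BigRows
import Cfsg.Agent.H56.Exc.Auto_m3
import Cfsg.Agent.H341.ThreeList_m3
import Cfsg.Agent.H129.CycRow
import Cfsg.Agent.H290.ElE7t
import Cfsg.Agent.H325.Same.ExcPair8_m3
import Cfsg.Agent.H946.KZ.Gap
import Cfsg.Agent.H177.OM.GTwoReal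
import Cfsg.Agent.H190.Odd.TwExact
import Cfsg.Agent.FastGrp
import Cfsg.Agent.Prune
set_option linter.all false

section
prune_inst 0x7ffdfffbbff8fddeffff7e7ffef9dffe39d2dfffefdffb4bfffaf3ff3fdf230c1be5fbaf9de0d0ff0ed6e2b630b87853fb7eefffeb6bdc7ffffd5ff45ffbee5ff7ffbd2d51d7b8341ffc6ffffbf07fce7f3fffffffffffffffffffffffffffbeffffffffffff

-- part: H190/Odd/Rad8
section
set_option linter.all false
open scoped Cfsg.Agent.FastGrp

/-!
# The classes `12`, `8` are good for all primes in `E₆(q)`, `²E₆(q)`, `q` odd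

`good_e6b`, `good_te6b`.
-/

set_option autoImplicit false

namespace Cfsg.Agent.H190.Odd

open Cfsg Cfsg.Agent.OrdDiv Cfsg.Agent.H436 Cfsg.Agent.H902 Cfsg.Agent.H290.ElReg Cfsg.Agent.H290.ElTab
  Cfsg.Agent.H56.Exc Cfsg.Agent.H325.Loc Cfsg.Agent.H563.KG

theorem modEq_comm {G : Type*} [Group G] [Finite G] {A : Subgroup G} [A.Normal] {x : G} {r : ℕ} (hr : r.Prime)
    (hx : orderOf x = r) : Nat.card A ≡ Nat.card {a : G // a ∈ A ∧ x * a = a * x} [MOD r] := by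
  have := Fact.mk hr
  let φ : Subgroup.zpowers x →* MulAut A := (MulAut.conjNormal (H := A)).comp (Subgroup.zpowers x).subtype
  let _ : MulAction (Subgroup.zpowers x) A := MulAction.compHom A φ
  have hP : IsPGroup r (Subgroup.zpowers x) := IsPGroup.of_card (n := 1) (by rw [Nat.card_zpowers, hx, pow_one])
  have h1 := hP.card_modEq_card_fixedPoints A
  have h2 : Nat.card (MulAction.fixedPoints (Subgroup.zpowers x) A) = Nat.card {a : G // a ∈ A ∧ x * a = a * x} := by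
    have hact : ∀ (y : Subgroup.zpowers x) (a : A), ((y • a : A) : G) = (y : G) * a * (y : G)⁻¹ := fun y a =>
      MulAut.conjNormal_apply _ _
    refine Nat.card_congr ⟨fun a => ⟨a.1.1, a.1.2, ?_⟩, fun a => ⟨⟨a.1, a.2.1⟩, fun y => Subtype.ext ?_⟩,
      fun a => rfl, fun a => rfl⟩
    · have h3 := congrArg Subtype.val (a.2 ⟨x, Subgroup.mem_zpowers x⟩)
      rw [hact] at h3
      exact mul_inv_eq_iff_eq_mul.1 h3
    · rw [hact]
      have hc : Commute x a.1 := a.2.2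
      obtain ⟨j, hj⟩ := y.2
      have hj' : x ^ j = (y : G) := hj
      show (y : G) * a.1 * (y : G)⁻¹ = a.1
      rw [← hj', (hc.zpow_left j).eq, mul_inv_cancel_right]
  rwa [h2] at h1

/-- `O₂ = 1` through elements of order `41` and `73` -/
theorem kill_two {G : Type*} [Group G] [Finite G] (hd : ¬ 2 ^ 20 ∣ Nat.card G) (h41 : 41 ∣ Nat.card G)
    (hc41 : ∀ x : G, orderOf x = 41 → IsCyclic ↥(Subgroup.centralizer ({x} : Set G))) (h73 : 73 ∣ Nat.card G)
    (hc73 : ∀ x : G, orderOf x = 73 → ¬ 2 ∣ Nat.card ↥(Subgroup.centralizer ({x} : Set G))) : KillB G 2 := by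
  intro A hAn hAc hAt
  have hp41 : Nat.Prime 41 := by norm_num
  have hp73 : Nat.Prime 73 := by norm_num
  have := Fact.mk hp41
  have := Fact.mk hp73
  have := Fact.mk Nat.prime_two
  have hPt : IsPGroup 2 A := fun a => ⟨1, by rw [pow_one]; exact Subtype.ext (hAt a a.2)⟩
  obtain ⟨k, hk⟩ := IsPGroup.iff_card.1 hPt
  have hk20 : k < 20 := by
    by_contra hcon
    exact hd ((pow_dvd_pow 2 (by omega)).trans (hk ▸ Subgroup.card_subgroup_dvd_card A))
  obtain ⟨x, hx⟩ := exists_prime_orderOf_dvd_card' 41 h41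
  obtain ⟨y, hy⟩ := exists_prime_orderOf_dvd_card' 73 h73
  have h1 := modEq_comm (A := A) hp41 hx
  have h2 := Cfsg.Agent.H190.Exc.card_comm_le Nat.prime_two hAt (hc41 x hx)
  have h3 : 0 < Nat.card {a : G // a ∈ A ∧ x * a = a * x} := by
    have : Nonempty {a : G // a ∈ A ∧ x * a = a * x} := ⟨⟨1, one_mem A, by rw [mul_one, one_mul]⟩⟩
    exact Nat.card_pos
  generalize Nat.card {a : G // a ∈ A ∧ x * a = a * x} = c at h1 h2 h3
  have hA2 : Nat.card A ≤ 2 := by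
    rw [hk] at h1 ⊢
    have hc : c = 1 ∨ c = 2 := by omega
    rcases hc with rfl | rfl <;> interval_cases k <;> first | decide | (exfalso; revert h1; decide)
  have h4 := dvd_card_sub_one (A := A) hp73 hy fun a ha hc => by
    have h5 : a ∈ Subgroup.centralizer ({y} : Set G) := Subgroup.mem_centralizer_singleton_iff.2 hc.symm
    have h6 : orderOf a ∣ Nat.card ↥(Subgroup.centralizer ({y} : Set G)) := by
      have h7 : orderOf (⟨a, h5⟩ : ↥(Subgroup.centralizer ({y} : Set G))) = orderOf a := by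
        rw [← Subgroup.orderOf_coe]
      rw [← h7]
      exact orderOf_dvd_natCard _
    rcases (Nat.dvd_prime Nat.prime_two).1 (orderOf_dvd_of_pow_eq_one (hAt a ha)) with h7 | h7
    · rwa [orderOf_eq_one_iff] at h7
    · rw [h7] at h6
      exact absurd h6 (hc73 y hy)
  have h5 : Nat.card A - 1 = 0 := Nat.eq_zero_of_dvd_of_lt h4 (by omega)
  have h6 : 0 < Nat.card A := Nat.card_pos
  exact Subgroup.card_eq_one.1 (by omega)

theorem free_of {G : Type*} [Group G] [Finite G] {q e t : ℕ} (he : Cls e) (hq : 1 ≤ q)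
    (ht : t.Prime) (h : ∀ r, Prim q e r → ∀ x : G, orderOf x = r →
      ¬ t ∣ Nat.card ↥(Subgroup.centralizer ({x} : Set G))) : Free G t (ncl e q) := by
  intro x hx hxm a ha hc
  have h1 := h _ (prim_of_dvd he hq hx hxm) x rfl
  have h2 : a ∈ Subgroup.centralizer ({x} : Set G) := Subgroup.mem_centralizer_singleton_iff.2 hc.symm
  have h3 : orderOf a ∣ Nat.card ↥(Subgroup.centralizer ({x} : Set G)) := by
    have h4 : orderOf (⟨a, h2⟩ : ↥(Subgroup.centralizer ({x} : Set G))) = orderOf a := by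
      rw [← Subgroup.orderOf_coe]
    rw [← h4]
    exact orderOf_dvd_natCard _
  rcases (Nat.dvd_prime ht).1 (orderOf_dvd_of_pow_eq_one ha) with h5 | h5
  · rwa [orderOf_eq_one_iff] at h5
  · rw [h5] at h3
    exact absurd h3 h1

theorem prime_mem {t : ℕ} (ht : t.Prime) : ∀ (L : List (ℕ × ℕ)), (∀ x ∈ L, x.1.Prime) →
    t ∣ (L.map fun x => x.1 ^ x.2).prod → ∃ x ∈ L, t = x.1
  | [], _, h => absurd (Nat.dvd_one.1 (by simpa using h)) ht.one_lt.ne'
  | x :: L, hL, h => by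
    rw [List.map_cons, List.prod_cons] at h
    rcases ht.dvd_mul.1 h with h1 | h1
    · exact ⟨x, List.mem_cons_self, (Nat.prime_dvd_prime_iff_eq ht (hL x List.mem_cons_self)).1 (ht.dvd_of_dvd_pow h1)⟩
    · obtain ⟨y, hy, h2⟩ := prime_mem ht L (fun y hy => hL y (List.mem_cons_of_mem _ hy)) h1
      exact ⟨y, List.mem_cons_of_mem _ hy, h2⟩

/-- the factorization of the order of `E₆(3)` -/
def fe3 : List (ℕ × ℕ) := [(2, 17), (3, 36), (5, 2), (7, 2), (11, 2), (13, 3), (41, 1), (73, 1), (757, 1)]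

/-- the factorization of the order of `²E₆(3)` -/
def ft3 : List (ℕ × ℕ) := [(2, 19), (3, 36), (5, 2), (7, 3), (13, 2), (19, 1), (37, 1), (41, 1), (61, 1), (73, 1)]

theorem fe3_eq : OL .E6 3 = (fe3.map fun x => x.1 ^ x.2).prod := by decide +kernel
theorem ft3_eq : OL .TE6 3 = (ft3.map fun x => x.1 ^ x.2).prod := by decide +kernel

theorem fe3_prime : ∀ x ∈ fe3, x.1.Prime := by
  intro x hx
  simp only [fe3, List.mem_cons, List.not_mem_nil, or_false] at hx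
  rcases hx with rfl | rfl | rfl | rfl | rfl | rfl | rfl | rfl | rfl <;> norm_num

theorem ft3_prime : ∀ x ∈ ft3, x.1.Prime := by
  intro x hx
  simp only [ft3, List.mem_cons, List.not_mem_nil, or_false] at hx
  rcases hx with rfl | rfl | rfl | rfl | rfl | rfl | rfl | rfl | rfl | rfl <;> norm_num

section Num

variable {q t : ℕ}

theorem gt12 (hq : 4 ≤ q) : 78 < ncl 12 q := by
  rw [ncl12_eq, Ph12_eq (by omega)]
  have h1 : 4 ^ 2 ≤ q ^ 2 := Nat.pow_le_pow_left hq 2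
  have h2 : 16 * 15 ≤ q ^ 2 * (q ^ 2 - 1) := Nat.mul_le_mul (by omega) (by omega)
  omega

theorem gt8 (hq : 4 ≤ q) : 78 < ncl 8 q := by
  refine ncl_gt (by decide) ?_
  show 78 * 2 < q ^ 4 + 1
  have h1 : 4 ^ 4 ≤ q ^ 4 := Nat.pow_le_pow_left hq 4
  omega

theorem sq_sub {q : ℕ} : q ^ 2 - 1 = (q - 1) * (q + 1) := by
  have := Nat.sq_sub_sq q 1
  rw [one_pow] at this
  rw [this, mul_comm]

/-- a divisor of `q² + q + 1` -/
theorem not8_plus (hq : 2 ≤ q) (ht : t.Prime) (ht3 : t ≠ 3) (h : t ∣ q ^ 2 + q + 1) (h8 : ¬ Prim q 8 t) :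
    ¬ t ∣ Ph 8 q * (q ^ 2 - 1) := by
  have c8 : Cls 8 := by unfold Cls; omega
  have h2 : t ≠ 2 := by
    rintro rfl
    rw [← ZMod.natCast_eq_zero_iff] at h
    push_cast at h
    generalize (q : ZMod 2) = x at h
    revert x; decide
  intro h1
  rcases ht.dvd_mul.1 h1 with h3 | h3
  · exact h2 ((Nat.prime_dvd_prime_iff_eq ht Nat.prime_two).1 (eq_cc c8 (by omega) ht h8 h3))
  · rw [sq_sub] at h3
    rcases ht.dvd_mul.1 h3 with h4 | h4
    · obtain ⟨k, rfl⟩ := Nat.exists_eq_add_of_le' (show 1 ≤ q by omega)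
      rw [Nat.add_sub_cancel] at h4
      have h5 : (k + 1) ^ 2 + (k + 1) + 1 = k * (k + 3) + 3 := by ring
      rw [h5] at h
      exact ht3 ((Nat.prime_dvd_prime_iff_eq ht Nat.prime_three).1 ((Nat.dvd_add_right (h4.mul_right _)).1 h))
    · have h5 : q ^ 2 + q + 1 = q * (q + 1) + 1 := by ring
      rw [h5] at h
      exact ht.one_lt.ne' (Nat.dvd_one.1 ((Nat.dvd_add_right (h4.mul_left _)).1 h))

/-- a divisor of `q² - q + 1` -/
theorem not8_minus (hq : 2 ≤ q) (ht : t.Prime) (ht3 : t ≠ 3) (h : t ∣ q ^ 2 - q + 1) (h8 : ¬ Prim q 8 t) :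
    ¬ t ∣ Ph 8 q * (q ^ 2 - 1) := by
  have c8 : Cls 8 := by unfold Cls; omega
  have hle : q ≤ q ^ 2 := Nat.le_self_pow (by norm_num) q
  have h2 : t ≠ 2 := by
    rintro rfl
    rw [← ZMod.natCast_eq_zero_iff] at h
    push_cast [Nat.cast_sub hle] at h
    generalize (q : ZMod 2) = x at h
    revert x; decide
  intro h1
  rcases ht.dvd_mul.1 h1 with h3 | h3
  · exact h2 ((Nat.prime_dvd_prime_iff_eq ht Nat.prime_two).1 (eq_cc c8 (by omega) ht h8 h3))
  · rw [sq_sub] at h3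
    obtain ⟨k, rfl⟩ := Nat.exists_eq_add_of_le' (show 1 ≤ q by omega)
    have h0 : (k + 1) ^ 2 - (k + 1) + 1 = k * (k + 1) + 1 := by
      have : (k + 1) ^ 2 = k * (k + 1) + (k + 1) := by ring
      omega
    rw [h0] at h
    rw [Nat.add_sub_cancel] at h3
    rcases ht.dvd_mul.1 h3 with h4 | h4
    · exact ht.one_lt.ne' (Nat.dvd_one.1 ((Nat.dvd_add_right (h4.mul_right _)).1 h))
    · -- `k (k + 1) + 1 = (k + 2) (k - 1) + 3`
      have h5 : (k * (k + 1) + 1) + (k + 2) * 1 = (k + 2) * k + 3 := by ring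
      have h6 : t ∣ (k + 2) * k + 3 := h5 ▸ dvd_add h (h4.mul_right _)
      exact ht3 ((Nat.prime_dvd_prime_iff_eq ht Nat.prime_three).1 ((Nat.dvd_add_right (h4.mul_right _)).1 h6))

end Num

/-- **`E₆(q)`, `q` odd, the classes 12, 8.** -/
theorem good_e6b {G : Type*} [Group G] [Finite G] {q n : ℕ} (hn : n ≤ 78) (hq : 3 ≤ q) (ho : ¬ 2 ∣ q)
    (h12 : Ord G q 12 (Ph 12 q * (q ^ 2 + q + 1)))
    (h3x : 3 ∣ q - 1 → ∀ r, Prim q 12 r → ∀ x : G, orderOf x = r →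
      ¬ 3 ∣ Nat.card ↥(Subgroup.centralizer ({x} : Set G)))
    (h8 : Ord G q 8 (Ph 8 q * (q ^ 2 - 1)))
    (hcyc : ∀ r, Prim q 8 r → ∀ x : G, orderOf x = r → IsCyclic ↥(Subgroup.centralizer ({x} : Set G)))
    (hd : Nat.card G ∣ OL .E6 q) (g12 : ncl 12 q ∣ Nat.card G) (g8 : ncl 8 q ∣ Nat.card G)
    {t : ℕ} (ht : t.Prime) (htq : ¬ t ∣ q) (ht12 : ¬ Prim q 12 t) (ht8 : ¬ Prim q 8 t) (htG : t ∣ Nat.card G) :
    Good G n t ∨ KillB G t := by
  have hq1 : 1 ≤ q := by omega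
  have c12 : Cls 12 := by unfold Cls; omega
  have c8 : Cls 8 := by unfold Cls; omega
  have k12 : ¬ t ∣ Ph 12 q := by rw [← ncl12_eq]; exact not_dvd_of_not_prim c12 hq1 ht ht12
  by_cases hA : t ∣ q ^ 2 + q + 1
  · by_cases h3 : t = 3
    · left
      subst h3
      have h4 : 3 ∣ q - 1 := by
        have h5 : (q : ZMod 3) = 1 := by
          rw [← ZMod.natCast_eq_zero_iff] at hA
          push_cast at hA
          generalize (q : ZMod 3) = x at hA ⊢
          revert x; decide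
        rw [← ZMod.natCast_eq_zero_iff, Nat.cast_sub hq1, h5, Nat.cast_one, sub_self]
      have h5 : 4 ≤ q := by
        by_contra hcon
        have : q = 3 := by omega
        subst this
        exact htq dvd_rfl
      exact ⟨ncl 12 q, g12, free_of c12 hq1 ht (h3x h4), Or.inl (lt_of_le_of_lt hn (gt12 h5))⟩
    · left
      have h4 := not8_plus (by omega) ht h3 hA ht8
      have h5 : Free G t (ncl 8 q) := h8.free c8 hq1 ht h4
      rcases eq_or_lt_of_le hq with rfl | hq4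
      · have h6 : (3 ^ 2 + 3 + 1 : ℕ) = 13 := by norm_num
        rw [h6] at hA
        obtain rfl := (Nat.prime_dvd_prime_iff_eq ht (by norm_num)).1 hA
        have h7 : ncl 8 3 = 41 := by decide +kernel
        refine ⟨ncl 8 3, g8, h5, Or.inr ⟨by rw [h7]; norm_num, fun k hk hkG => ?_⟩⟩
        have h8 : k ≤ 3 := pow_bound (M := OL .E6 3) (by decide +kernel) (hkG.trans hd)
        rw [h7]
        interval_cases k <;> norm_num
      · exact ⟨ncl 8 q, g8, h5, Or.inl (lt_of_le_of_lt hn (gt8 hq4))⟩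
  · have h4 : ¬ t ∣ Ph 12 q * (q ^ 2 + q + 1) := fun h => by
      rcases ht.dvd_mul.1 h with h | h
      · exact k12 h
      · exact hA h
    rcases eq_or_lt_of_le hq with rfl | hq4
    · have h7 : ncl 12 3 = 73 := by decide +kernel
      have h7' : ncl 8 3 = 41 := by decide +kernel
      have h5 : Free G t (ncl 12 3) := h12.free c12 hq1 ht h4
      have h6 := htG.trans hd
      rw [fe3_eq] at h6
      obtain ⟨y, hy, hty⟩ := prime_mem ht fe3 fe3_prime h6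
      simp only [fe3, List.mem_cons, List.not_mem_nil, or_false] at hy
      have key : ∀ K, ¬ t ^ (K + 1) ∣ OL .E6 3 → (∀ k ≤ K, 0 < k → ¬ 73 ∣ t ^ k - 1) → Good G n t := by
        intro K hK hk
        refine ⟨ncl 12 3, g12, h5, Or.inr ⟨by rw [h7]; norm_num, fun k hk0 hkG => ?_⟩⟩
        rw [h7]
        exact hk k (pow_bound hK (hkG.trans hd)) hk0
      rcases hy with rfl | rfl | rfl | rfl | rfl | rfl | rfl | rfl | rfl <;> (simp only at hty; subst hty)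
      · right
        refine kill_two (fun h => ?_) (h7' ▸ g8) (fun x hx => hcyc 41 ?_ x hx) (h7 ▸ g12) (fun x hx h => ?_)
        · have h8 : ¬ 2 ^ 20 ∣ OL .E6 3 := by decide +kernel
          exact h8 (h.trans hd)
        · exact prim_of_dvd c8 hq1 (by norm_num) (by rw [h7'])
        · have h9 := h12 73 (prim_of_dvd c12 hq1 (by norm_num) (by rw [h7])) x hx
          exact h4 (h.trans h9)
      · exact absurd dvd_rfl htq
      · exact Or.inl (key 2 (by decide +kernel) fun k hk hk0 => by interval_cases k <;> norm_num)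
      · exact Or.inl (key 2 (by decide +kernel) fun k hk hk0 => by interval_cases k <;> norm_num)
      · exact Or.inl (key 2 (by decide +kernel) fun k hk hk0 => by interval_cases k <;> norm_num)
      · exact absurd (by norm_num) hA
      · exact absurd (prim_of_dvd c8 hq1 (by norm_num) (by rw [h7'])) ht8
      · exact absurd (prim_of_dvd c12 hq1 (by norm_num) (by rw [h7])) ht12
      · exact Or.inl (key 1 (by decide +kernel) fun k hk hk0 => by interval_cases k <;> norm_num)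
    · left
      exact ⟨ncl 12 q, g12, h12.free c12 hq1 ht h4, Or.inl (lt_of_le_of_lt hn (gt12 hq4))⟩

/-- **`²E₆(q)`, `q` odd, the classes 12, 8.** -/
theorem good_te6b {G : Type*} [Group G] [Finite G] {q n : ℕ} (hn : n ≤ 78) (hq : 3 ≤ q) (ho : ¬ 2 ∣ q)
    (h12 : Ord G q 12 (Ph 12 q * (q ^ 2 - q + 1)))
    (h3x : 3 ∣ q + 1 → ∀ r, Prim q 12 r → ∀ x : G, orderOf x = r →
      ¬ 3 ∣ Nat.card ↥(Subgroup.centralizer ({x} : Set G)))
    (h8 : Ord G q 8 (Ph 8 q * (q ^ 2 - 1)))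
    (hcyc : ∀ r, Prim q 8 r → ∀ x : G, orderOf x = r → IsCyclic ↥(Subgroup.centralizer ({x} : Set G)))
    (hd : Nat.card G ∣ OL .TE6 q) (g12 : ncl 12 q ∣ Nat.card G) (g8 : ncl 8 q ∣ Nat.card G)
    {t : ℕ} (ht : t.Prime) (htq : ¬ t ∣ q) (ht12 : ¬ Prim q 12 t) (ht8 : ¬ Prim q 8 t) (htG : t ∣ Nat.card G) :
    Good G n t ∨ KillB G t := by
  have hq1 : 1 ≤ q := by omega
  have hle : q ≤ q ^ 2 := Nat.le_self_pow (by norm_num) q
  have c12 : Cls 12 := by unfold Cls; omega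
  have c8 : Cls 8 := by unfold Cls; omega
  have k12 : ¬ t ∣ Ph 12 q := by rw [← ncl12_eq]; exact not_dvd_of_not_prim c12 hq1 ht ht12
  by_cases hA : t ∣ q ^ 2 - q + 1
  · by_cases h3 : t = 3
    · left
      subst h3
      have h4 : 3 ∣ q + 1 := by
        have h5 : (q : ZMod 3) = 2 := by
          rw [← ZMod.natCast_eq_zero_iff] at hA
          push_cast [Nat.cast_sub hle] at hA
          generalize (q : ZMod 3) = x at hA ⊢
          revert x; decide
        rw [← ZMod.natCast_eq_zero_iff]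
        push_cast
        rw [h5]
        decide
      have h5 : 4 ≤ q := by
        by_contra hcon
        have : q = 3 := by omega
        subst this
        exact htq dvd_rfl
      exact ⟨ncl 12 q, g12, free_of c12 hq1 ht (h3x h4), Or.inl (lt_of_le_of_lt hn (gt12 h5))⟩
    · left
      have h4 := not8_minus (by omega) ht h3 hA ht8
      have h5 : Free G t (ncl 8 q) := h8.free c8 hq1 ht h4
      rcases eq_or_lt_of_le hq with rfl | hq4
      · have h6 : (3 ^ 2 - 3 + 1 : ℕ) = 7 := by norm_num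
        rw [h6] at hA
        obtain rfl := (Nat.prime_dvd_prime_iff_eq ht (by norm_num)).1 hA
        have h7 : ncl 8 3 = 41 := by decide +kernel
        refine ⟨ncl 8 3, g8, h5, Or.inr ⟨by rw [h7]; norm_num, fun k hk hkG => ?_⟩⟩
        have h8 : k ≤ 3 := pow_bound (M := OL .TE6 3) (by decide +kernel) (hkG.trans hd)
        rw [h7]
        interval_cases k <;> norm_num
      · exact ⟨ncl 8 q, g8, h5, Or.inl (lt_of_le_of_lt hn (gt8 hq4))⟩
  · have h4 : ¬ t ∣ Ph 12 q * (q ^ 2 - q + 1) := fun h => by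
      rcases ht.dvd_mul.1 h with h | h
      · exact k12 h
      · exact hA h
    rcases eq_or_lt_of_le hq with rfl | hq4
    · have h7 : ncl 12 3 = 73 := by decide +kernel
      have h7' : ncl 8 3 = 41 := by decide +kernel
      have h5 : Free G t (ncl 12 3) := h12.free c12 hq1 ht h4
      have h6 := htG.trans hd
      rw [ft3_eq] at h6
      obtain ⟨y, hy, hty⟩ := prime_mem ht ft3 ft3_prime h6
      simp only [ft3, List.mem_cons, List.not_mem_nil, or_false] at hy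
      have key : ∀ K, ¬ t ^ (K + 1) ∣ OL .TE6 3 → (∀ k ≤ K, 0 < k → ¬ 73 ∣ t ^ k - 1) → Good G n t := by
        intro K hK hk
        refine ⟨ncl 12 3, g12, h5, Or.inr ⟨by rw [h7]; norm_num, fun k hk0 hkG => ?_⟩⟩
        rw [h7]
        exact hk k (pow_bound hK (hkG.trans hd)) hk0
      rcases hy with rfl | rfl | rfl | rfl | rfl | rfl | rfl | rfl | rfl | rfl <;> (simp only at hty; subst hty)
      · right
        refine kill_two (fun h => ?_) (h7' ▸ g8) (fun x hx => hcyc 41 ?_ x hx) (h7 ▸ g12) (fun x hx h => ?_)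
        · have h8 : ¬ 2 ^ 20 ∣ OL .TE6 3 := by decide +kernel
          exact h8 (h.trans hd)
        · exact prim_of_dvd c8 hq1 (by norm_num) (by rw [h7'])
        · have h9 := h12 73 (prim_of_dvd c12 hq1 (by norm_num) (by rw [h7])) x hx
          exact h4 (h.trans h9)
      · exact absurd dvd_rfl htq
      · exact Or.inl (key 2 (by decide +kernel) fun k hk hk0 => by interval_cases k <;> norm_num)
      · exact absurd (by norm_num) hA
      · exact Or.inl (key 2 (by decide +kernel) fun k hk hk0 => by interval_cases k <;> norm_num)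
      · exact Or.inl (key 1 (by decide +kernel) fun k hk hk0 => by interval_cases k <;> norm_num)
      · exact Or.inl (key 1 (by decide +kernel) fun k hk hk0 => by interval_cases k <;> norm_num)
      · exact absurd (prim_of_dvd c8 hq1 (by norm_num) (by rw [h7'])) ht8
      · exact Or.inl (key 1 (by decide +kernel) fun k hk hk0 => by interval_cases k <;> norm_num)
      · exact absurd (prim_of_dvd c12 hq1 (by norm_num) (by rw [h7])) ht12
    · left
      exact ⟨ncl 12 q, g12, h12.free c12 hq1 ht h4, Or.inl (lt_of_le_of_lt hn (gt12 hq4))⟩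

end Cfsg.Agent.H190.Odd

private theorem dce_78460b587527 : _root_.True := by
  try have : _root_.True := by simp only [_root_.Cfsg.Agent.H190.Odd.ft3.eq_1]
  try have : _root_.True := by simp only [_root_.Cfsg.Agent.H190.Odd.fe3.eq_1]
  exact _root_.True.intro
end

-- part: H190/Odd/K8E6
section
prune_inst 0x200000000000000000000000000000000000000000000000000000000000000000000000002000001000000000000000000000000000000000000000000000000000000000000000000000000000000000000000000000000000000000000000000000000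
set_option linter.all false
open scoped Cfsg.Agent.FastGrp

-- part: H515/OddM/Base
section
/-!
# S4785 (TEAM ODDM), exceptional groups, `q` odd: cyclic tori all of whose `r`-elements are real (helper515)
-/

set_option autoImplicit false

namespace Cfsg.Agent.H515.OddM

open Cfsg.Agent.H453.OddM

/-- A cyclic subgroup containing the centralisers of its elements of order `r` contains a Sylow `r`-subgroup. -/
theorem sylow_le_of_cent {G : Type*} [Group G] [Finite G] {T : Subgroup G} {r : ℕ} (hr : r.Prime)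
    (hrT : r ∣ Nat.card ↥T) (hcent : ∀ y ∈ T, orderOf y = r → Subgroup.centralizer {y} ≤ T) :
    ∃ P : Sylow r G, (P : Subgroup G) ≤ T := by
  have := Fact.mk hr
  obtain ⟨⟨x, hxT⟩, hx⟩ := exists_prime_orderOf_dvd_card' (G := ↥T) r hrT
  rw [Subgroup.orderOf_mk] at hx
  have hpx : IsPGroup r ↥(Subgroup.zpowers x) := by
    refine IsPGroup.of_card (n := 1) ?_
    rw [Nat.card_zpowers, hx, pow_one]
  obtain ⟨P, hP⟩ := hpx.exists_le_sylow
  refine ⟨P, ?_⟩
  have hxP : x ∈ (P : Subgroup G) := hP (Subgroup.mem_zpowers x)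
  have hnt : Nontrivial ↥(P : Subgroup G) := by
    refine ⟨⟨⟨x, hxP⟩, 1, fun h => ?_⟩⟩
    have h1 : x = 1 := congrArg Subtype.val h
    rw [h1, orderOf_one] at hx
    exact hr.one_lt.ne hx
  have hz := P.2.center_nontrivial
  have hcz : r ∣ Nat.card ↥(Subgroup.center ↥(P : Subgroup G)) := by
    have h1 : IsPGroup r ↥(Subgroup.center ↥(P : Subgroup G)) := P.2.to_subgroup _
    obtain ⟨n, hn⟩ := IsPGroup.iff_card.1 h1
    rw [hn]
    rcases Nat.eq_zero_or_pos n with rfl | h0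
    · rw [pow_zero] at hn
      exact absurd hn (Finite.one_lt_card).ne'
    · exact dvd_pow_self r h0.ne'
  obtain ⟨⟨z, hzc⟩, hzr⟩ := exists_prime_orderOf_dvd_card' (G := ↥(Subgroup.center ↥(P : Subgroup G))) r hcz
  rw [Subgroup.orderOf_mk] at hzr
  have hz1 : orderOf (z : G) = r := by rw [Subgroup.orderOf_coe]; exact hzr
  have hzT : (z : G) ∈ T := by
    refine hcent x hxT hx ?_
    rw [Subgroup.mem_centralizer_singleton_iff]
    have h1 := Subgroup.mem_center_iff.1 hzc ⟨x, hxP⟩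
    exact (congrArg Subtype.val h1).symm
  intro y hy
  refine hcent z hzT hz1 ?_
  rw [Subgroup.mem_centralizer_singleton_iff]
  exact congrArg Subtype.val (Subgroup.mem_center_iff.1 hzc ⟨y, hy⟩)

/-- **The full `r`-part**: if the `r`-elements of a cyclic torus are real, `r` does not divide the index of `M`. -/
theorem not_dvd_index {G : Type*} [Group G] [Finite G] {T : Subgroup G} (hc : IsCyclic ↥T) {r : ℕ} (hr : r.Prime)
    (hrT : r ∣ Nat.card ↥T) (hcent : ∀ y ∈ T, orderOf y = r → Subgroup.centralizer {y} ≤ T)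
    (hreal : ∀ x ∈ T, (∃ k, orderOf x = r ^ k) → IsReal x) {M : Subgroup G}
    (hM : ∀ x : G, IsReal x → ∃ g : G, g * x * g⁻¹ ∈ M) : ¬ r ∣ M.index := by
  have := Fact.mk hr
  obtain ⟨P, hPT⟩ := sylow_le_of_cent hr hrT hcent
  have hPc : IsCyclic ↥(P : Subgroup G) := by
    have h1 : IsCyclic ↥((P : Subgroup G).subgroupOf T) := inferInstance
    exact (Subgroup.subgroupOfEquivOfLe hPT).isCyclic.1 h1
  obtain ⟨⟨s, hs⟩, hgen⟩ := hPc.exists_generator
  have hso : orderOf s = Nat.card ↥(P : Subgroup G) := by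
    have h1 := orderOf_eq_card_of_forall_mem_zpowers hgen
    rwa [Subgroup.orderOf_mk] at h1
  obtain ⟨n, hn⟩ := IsPGroup.iff_card.1 P.2
  obtain ⟨g, hg⟩ := hM s (hreal s (hPT hs) ⟨n, by rw [hso, hn]⟩)
  have h2 : Nat.card ↥(P : Subgroup G) ∣ Nat.card ↥M := by
    have h3 : orderOf (⟨g * s * g⁻¹, hg⟩ : ↥M) = Nat.card ↥(P : Subgroup G) := by
      rw [← Subgroup.orderOf_coe, ← hso]
      exact orderOf_injective (MulAut.conj g).toMonoidHom (MulAut.conj g).injective s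
    rw [← h3]
    exact orderOf_dvd_natCard _
  intro hd
  obtain ⟨m, hm⟩ := h2
  have h4 : Nat.card ↥(P : Subgroup G) * (P : Subgroup G).index = Nat.card G := Subgroup.card_mul_index _
  have h5 : Nat.card ↥M * M.index = Nat.card G := Subgroup.card_mul_index _
  have h6 : (P : Subgroup G).index = m * M.index := by
    refine Nat.eq_of_mul_eq_mul_left (Nat.card_pos (α := ↥(P : Subgroup G))) ?_
    rw [h4, ← h5, hm, mul_assoc]
  exact P.not_dvd_index (h6 ▸ hd.mul_left m)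

end Cfsg.Agent.H515.OddM
end

-- part: H515/OddM/NegT
section
/-!
# S4785 (TEAM ODDM): the cyclic tori of `G₂(q)`, `F₄(q)`, `E₈(q)` are inverted (helper515)

`neg_T` : if `-1` lies in the Weyl group and the centre of the simply connected group is trivial, the cyclic torus
`T` of order `N` is inverted by an element of the finite group.
-/

set_option autoImplicit false
set_option linter.unusedSectionVars false

namespace Cfsg.Agent.H515.OddM

open CoxeterSystem Cfsg Cfsg.Lie Cfsg.Lie.ChevalleyDatum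
open Cfsg.Agent.ChevalleyStructure Cfsg.Agent.ChevalleyStructure.Elts Cfsg.Agent.ChevalleyStructure.CoxeterGeom
  Cfsg.Agent.ChevalleyStructure.CoxeterGeomTypes Cfsg.Agent.ChevalleyStructure.NPerm
open Cfsg.Agent.Tits.Roots Cfsg.Agent.Tits.Core Cfsg.Agent.Nodes Cfsg.Agent.Nodes.Reps Cfsg.Agent.Nodes.BNOf
  Cfsg.Agent.Nodes.RGDChev Cfsg.Agent.Nodes.Bruhat Cfsg.Agent.Nodes.SubComb Cfsg.Agent.Nodes.Coroot
open Cfsg.Agent.KFacts.RgdField Cfsg.Agent.KFacts.RgdChevCoord Cfsg.Agent.BpExc.TorCent Cfsg.Agent.BpExc.TorChev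
open Cfsg.Agent.GpExc.Field Cfsg.Agent.BpExc.Tow Cfsg.Agent.BpExc.TowChev Cfsg.Agent.BpExc.Fr
  Cfsg.Agent.BpExc.LangFr Cfsg.Agent.LangThm Cfsg.Agent.BpExc Cfsg.Agent.H129.TorusChar Cfsg.Agent.H129.TorusCent
  Cfsg.Agent.H129.TorusTw Cfsg.Agent.H129.TorusMain Cfsg.Agent.H129.TorusUntw Cfsg.Agent.H129.TorAct
  Cfsg.Agent.H129.WData Cfsg.Agent.H129.UntwTwo

universe u

variable {D : ChevalleyDatum} {l : ℕ} {M : CoxeterMatrix (Fin l)} (hp : IsType D l M)
  {W : Type*} [Group W] (cs : CoxeterSystem M W)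

/-- from the roots to the lattice -/
theorem neg_all {v : W} (hv : ∀ a, IsRoot cs hp.isCartan a → rep cs hp.isCartan v a = -a) (x : Fin l → ℤ) :
    rep cs hp.isCartan v x = -x := by
  have h1 : rep cs hp.isCartan v = -LinearMap.id := by
    refine (Pi.basisFun ℤ (Fin l)).ext fun i => ?_
    have h2 : (Pi.basisFun ℤ (Fin l)) i = sr i := by
      rw [Pi.basisFun_apply]
      rfl
    rw [h2, LinearMap.neg_apply, LinearMap.id_apply]
    exact hv _ (isRoot_sr cs hp.isCartan i)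
  rw [h1]
  rfl

include hp cs in
/-- **The inverted cyclic tori.** -/
theorem neg_T [Finite W] (hl : 0 < l) {F : Type u} [Field F] [Fintype F] {q : ℕ} (hq : Fintype.card F = q)
    {B' : Fin l → Fin l → ℤ} (hB : InvC D l 1 B')
    (hneg : ∃ v : W, ∀ a, IsRoot cs hp.isCartan a → rep cs hp.isCartan v a = -a)
    {A : Mat l} (hA : ∀ i j, A i j = cartanOf D l i j) {L : List (Fin l × Mat l)} (hL : ChainOK A L)
    {V B : Mat l} {c : Fin l → ℤ} (hcyc : CycOK l (hd L) V B c) {m : ℕ} {R : Fin m → Fin l → ℤ} {prv dep : ℕ → ℕ}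
    (hR : RootOK D l (hd L) R prv dep) {N : ℕ} (hfN : fN c (q : ℤ) = N) (hqN : q.Coprime N) :
    ∃ T : Subgroup ↥(D.group F), IsCyclic ↥T ∧ Nat.card ↥T = N ∧
      (∀ r : ℕ, r.Prime → ¬ r ∣ Nat.card W → (∀ s, ¬ (r : ℤ) ∣ Gq B (q : ℤ) (R s)) → ∀ y ∈ T, orderOf y = r →
        Subgroup.centralizer {y} ≤ T) ∧
      (∀ r : ℕ, r.Prime → r ∣ N → ¬ r ∣ Nat.card W → (∀ s, ¬ (r : ℤ) ∣ Gq B (q : ℤ) (R s)) →
        ∃ y : ↥(D.group F), ∀ b ∈ T, y * b * y⁻¹ = b⁻¹) := by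
  obtain ⟨v, hv⟩ := hneg
  have hv := neg_all hp cs hv
  have hlin := lin_refl hp cs hA hL
  have hc := cyc_of hlin hcyc
  obtain ⟨p, e, hpF, hpc, hpk, he, rfl, hk⟩ := _root_.Cfsg.Agent.H129.TorusUntw.exists_closure hq
  have hpN : ¬ p ∣ N := fun h1 => by
    have h2 : p ∣ Nat.gcd (p ^ e) N := Nat.dvd_gcd (dvd_pow_self p he.ne') h1
    rw [hqN] at h2
    exact hpF.out.one_lt.ne' (Nat.dvd_one.1 h2)
  have hN0 : N ≠ 0 := fun h0 => hpN (by rw [h0]; exact dvd_zero p)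
  have hN1 : 1 ≤ N := Nat.pos_of_ne_zero hN0
  have hd : ∀ y : ↥(D.group (AlgebraicClosure F)), phi D (AlgebraicClosure F) p e y = y →
      y ^ 1 ∈ (emb hp.inList (algebraMap F (AlgebraicClosure F))).range := by
    intro y hy
    rw [pow_one]
    exact fix_range hp cs _ hq hB one_ne_zero (fun a => ⟨a, pow_one a⟩) hy
  obtain ⟨T, h1, h2, h3, h4, h5, -⟩ := exists_T (k := AlgebraicClosure F) (hp := hp) (cs := cs) hl hk
    (hN := nsys_of_locFin hp cs hk p) he isFrob_phi (fr_phi hp cs) hB one_ne_zero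
    (w := cs.wordProd (L.map Prod.fst)) hc hfN hpN
    (e0 := emb hp.inList (algebraMap F (AlgebraicClosure F))) (emb_injective hp.inList _) (phi_emb hp _ hq) hd
  have hgood : ∀ r : ℕ, r.Prime → r ∣ N → (∀ s, ¬ (r : ℤ) ∣ Gq B ((p ^ e : ℕ) : ℤ) (R s)) →
      ∀ a, IsRoot cs hp.isCartan a → ¬ (r : ℤ) ∣ Gq B ((p ^ e : ℕ) : ℤ) a := fun r hr hrN hG a ha =>
    not_dvd_G hp cs hlin hc hR hfN hr hrN hqN hG ha
  rw [one_mul] at h3
  have hTN : Nat.card ↥T = N := Nat.dvd_antisymm h2 h3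
  refine ⟨T, h1, hTN, ?_, ?_⟩
  · intro r hr hrW hG y hy hyr
    have hrN : r ∣ N := by
      rw [← hyr]
      refine dvd_trans ?_ h2
      have := orderOf_dvd_natCard (⟨y, hy⟩ : ↥T)
      rwa [Subgroup.orderOf_mk] at this
    exact h4 r hr hrW (hgood r hr hrN hG) y hy hyr
  · intro r hr hrN hrW hG
    obtain ⟨y, hy⟩ := h5 r hr hrN hrW (hgood r hr hrN hG) v (N - 1)
      (fun x => by rw [hv, hv, map_neg])
      (fun x => by
        have h5 : Gq B ((p ^ e : ℕ) : ℤ) (-x) = - Gq B ((p ^ e : ℕ) : ℤ) x := by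
          have h6 := Gq_add B ((p ^ e : ℕ) : ℤ) x (-x)
          rw [add_neg_cancel, Gq_zero] at h6
          linarith only [h6]
        rw [hv, h5, Nat.cast_sub hN1]
        exact ⟨-Gq B ((p ^ e : ℕ) : ℤ) x, by push_cast; ring⟩)
    refine ⟨y, fun b hb => ?_⟩
    have h6 := hy b hb
    have hbN : b ^ N = 1 := by
      have h7 : (⟨b, hb⟩ : ↥T) ^ Nat.card ↥T = 1 := pow_card_eq_one'
      rw [hTN] at h7
      exact congrArg Subtype.val h7
    have h8 : b ^ (N - 1) = b⁻¹ := by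
      rw [eq_inv_iff_mul_eq_one, ← pow_succ, Nat.sub_add_cancel hN1, hbN]
    rw [pow_one, h8] at h6
    calc y * b * y⁻¹ = (y * b⁻¹ * y⁻¹)⁻¹ := by group
      _ = b⁻¹ := by rw [h6]

end Cfsg.Agent.H515.OddM
end

-- part: H515/OddM/NegRows
section
/-!
# S4785 (TEAM ODDM): `G₂(q)`, `F₄(q)`, `E₈(q)`: the full parts of the regular classes (helper515)

`M` meets every real class of `T`.  Then no primitive prime divisor `r` of `q ^ e - 1` divides `|T : M|` for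
`G₂` (`e = 3, 6`), `F₄` (`e = 8, 12`), `E₈` (`e = 15, 20, 24, 30`).
-/

set_option autoImplicit false
set_option linter.unusedSectionVars false

namespace Cfsg.Agent.H515.OddM

open Cfsg Cfsg.Lie Cfsg.Lie.ChevalleyDatum
open Cfsg.Agent.H436 (Prim exists_prim)
open Cfsg.Agent.ChevalleyStructure Cfsg.Agent.ChevalleyStructure.Elts Cfsg.Agent.ChevalleyStructure.CoxeterGeom
  Cfsg.Agent.ChevalleyStructure.CoxeterGeomTypes Cfsg.Agent.ChevalleyStructure.NPerm
open Cfsg.Agent.Tits.Roots Cfsg.Agent.Tits.Core Cfsg.Agent.Nodes Cfsg.Agent.Nodes.Reps Cfsg.Agent.Nodes.BNOf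
  Cfsg.Agent.Nodes.RGDChev Cfsg.Agent.Nodes.Bruhat Cfsg.Agent.Nodes.SubComb Cfsg.Agent.Nodes.Coroot
open Cfsg.Agent.H129 Cfsg.Agent.H129.CycT Cfsg.Agent.H129.CycCard Cfsg.Agent.H129.TorusChar Cfsg.Agent.H129.TorusTw
  Cfsg.Agent.H129.WData Cfsg.Agent.H129.TorAct Cfsg.Agent.H129.RealT
open Cfsg.Agent.H453.OddM Cfsg.Agent.H56.Exc

universe u

section gen

variable {D : ChevalleyDatum} {l : ℕ} {M : CoxeterMatrix (Fin l)} (hp : IsType D l M)
  {W : Type*} [Group W] (cs : CoxeterSystem M W)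

include hp cs in
theorem off_of [Finite W] (hl : 0 < l) {F : Type u} [Field F] [Fintype F] {q : ℕ} (hq : Fintype.card F = q)
    {B' : Fin l → Fin l → ℤ} (hB : InvC D l 1 B')
    (hneg : ∃ v : W, ∀ a, IsRoot cs hp.isCartan a → rep cs hp.isCartan v a = -a)
    {A : Mat l} (hA : ∀ i j, A i j = cartanOf D l i j) {L : List (Fin l × Mat l)} (hL : ChainOK A L)
    {V B : Mat l} {c : Fin l → ℤ} (hcyc : CycOK l (hd L) V B c) {m : ℕ} {R : Fin m → Fin l → ℤ} {prv dep : ℕ → ℕ}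
    (hR : RootOK D l (hd L) R prv dep) {N : ℕ} (hfN : fN c (q : ℤ) = N) (hqN : q.Coprime N) {r : ℕ}
    (hr : r.Prime) (hrN : r ∣ N) (hg : ¬ r ∣ Nat.card W ∧ ∀ s, ¬ (r : ℤ) ∣ Gq B (q : ℤ) (R s))
    {K : Subgroup ↥(D.group F)} (hK : ∀ x, IsReal x → ∃ g : ↥(D.group F), g * x * g⁻¹ ∈ K) :
    ¬ r ∣ K.index := by
  obtain ⟨T, h1, h2, h3, h4⟩ := neg_T hp cs hl hq hB hneg hA hL hcyc hR hfN hqN
  obtain ⟨y, hy⟩ := h4 r hr hrN hg.1 hg.2
  exact not_dvd_index h1 hr (h2 ▸ hrN) (h3 r hr hg.1 hg.2) (fun x hx _ => ⟨y, hy x hx⟩) hK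

end gen

variable {F : Type u} [Field F] [Fintype F] {q : ℕ}

theorem exists_nat {z : ℤ} (h : 0 ≤ z) : ∃ N : ℕ, (N : ℤ) = z := ⟨z.toNat, Int.toNat_of_nonneg h⟩

/-! ### `G₂` -/

/-! ### `F₄` -/

theorem off_F4_8 (hq : Fintype.card F = q) {K : Subgroup ↥(chevF4.group F)}
    (hK : ∀ x, IsReal x → ∃ g : ↥(chevF4.group F), g * x * g⁻¹ ∈ K) {r : ℕ} (hr : Prim q 8 r) : ¬ r ∣ K.index := by
  have : Finite CoxeterMatrix.F₄.Group := Nat.finite_of_card_ne_zero (by rw [cardW_F4]; norm_num)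
  have h := prim_dvd_8 hr
  have hlt := prim_lt hr (by norm_num)
  obtain ⟨m, hm⟩ := exists_nat (z := 1 + (q : ℤ) ^ 4) (by positivity)
  have hrm : r ∣ m := dvd_of_int h (by rw [hm, mul_one])
  exact off_of typeF4 CoxeterMatrix.F₄.toCoxeterSystem (by norm_num) hq TorusChar.invC_F4
    (Cfsg.Agent.H696.GmnNeg.negF4 typeF4 _) DataF4.hA
    DataF4.chainOK DataF4.cycOK DataF4.rootOK (by rw [DataF4.fN_eq, hm])
    (UntwData.coprime_of_eq (a := (q : ℤ) ^ 3) (by rw [hm]; ring)) hr.prime hrm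
    (good_F4_8 hm hr.prime hrm (by omega)) hK

theorem off_F4_12 (hq : Fintype.card F = q) {K : Subgroup ↥(chevF4.group F)}
    (hK : ∀ x, IsReal x → ∃ g : ↥(chevF4.group F), g * x * g⁻¹ ∈ K) {r : ℕ} (hr : Prim q 12 r) : ¬ r ∣ K.index := by
  have : Finite CoxeterMatrix.F₄.Group := Nat.finite_of_card_ne_zero (by rw [cardW_F4]; norm_num)
  have h := prim_dvd_12 hr
  have hlt := prim_lt hr (by norm_num)
  obtain ⟨m, hm⟩ := exists_nat (z := 1 - (q : ℤ) ^ 2 + (q : ℤ) ^ 4)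
    (by linarith only [sq_nonneg ((q : ℤ) ^ 2 - 1), _root_.sq_nonneg (↑q : ℤ), _root_.sq_nonneg (↑q ^ 2 - 1 : ℤ)])
  have hrm : r ∣ m := dvd_of_int h (by rw [hm, mul_one])
  exact off_of typeF4 CoxeterMatrix.F₄.toCoxeterSystem (by norm_num) hq TorusChar.invC_F4
    (Cfsg.Agent.H696.GmnNeg.negF4 typeF4 _) DataF4h.hA
    DataF4h.chainOK DataF4h.cycOK DataF4h.rootOK (by rw [DataF4h.fN_eq, hm])
    (UntwData.coprime_of_eq (a := -(q : ℤ) + (q : ℤ) ^ 3) (by rw [hm]; ring)) hr.prime hrm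
    (good_F4_12 hm hr.prime hrm) hK

/-! ### `E₈` -/

theorem off_E8_24 (hq : Fintype.card F = q) {K : Subgroup ↥(chevE8.group F)}
    (hK : ∀ x, IsReal x → ∃ g : ↥(chevE8.group F), g * x * g⁻¹ ∈ K) {r : ℕ} (hr : Prim q 24 r) : ¬ r ∣ K.index := by
  have := finite_W8
  have h := prim_dvd_24 hr
  have hlt := prim_lt hr (by norm_num)
  obtain ⟨m, hm⟩ := exists_nat (z := 1 - (q : ℤ) ^ 4 + (q : ℤ) ^ 8)
    (by nlinarith only [sq_nonneg ((q : ℤ) ^ 4 - 1)])
  have hrm : r ∣ m := dvd_of_int h (by rw [hm, mul_one])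
  exact off_of typeE8 CoxeterMatrix.E₈.toCoxeterSystem (by norm_num) hq TorusChar.invC_E8
    (Cfsg.Agent.H696.GmnNeg.negE8 typeE8 _) DataE8c.hA
    DataE8c.chainOK DataE8c.cycOK DataE8c.rootOK (by rw [DataE8c.fN_eq, hm])
    (UntwData.coprime_of_eq (a := -(q : ℤ) ^ 3 + (q : ℤ) ^ 7) (by rw [hm]; ring)) hr.prime hrm
    (good_E8_24 hm hr.prime hrm) hK

theorem off_E8_20 (hq : Fintype.card F = q) {K : Subgroup ↥(chevE8.group F)}
    (hK : ∀ x, IsReal x → ∃ g : ↥(chevE8.group F), g * x * g⁻¹ ∈ K) {r : ℕ} (hr : Prim q 20 r) : ¬ r ∣ K.index := by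
  have := finite_W8
  have h := prim_dvd_20 hr
  have hlt := prim_lt hr (by norm_num)
  obtain ⟨m, hm⟩ := exists_nat (z := 1 - (q : ℤ) ^ 2 + (q : ℤ) ^ 4 - (q : ℤ) ^ 6 + (q : ℤ) ^ 8)
    (by linarith only [sq_nonneg ((q : ℤ) ^ 4 - (q : ℤ) ^ 2), sq_nonneg ((q : ℤ) ^ 2 - 1), sq_nonneg ((q : ℤ) ^ 4)])
  have hrm : r ∣ m := dvd_of_int h (by rw [hm, mul_one])
  exact off_of typeE8 CoxeterMatrix.E₈.toCoxeterSystem (by norm_num) hq TorusChar.invC_E8
    (Cfsg.Agent.H696.GmnNeg.negE8 typeE8 _) DataE8b.hA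
    DataE8b.chainOK DataE8b.cycOK DataE8b.rootOK (by rw [DataE8b.fN_eq, hm])
    (UntwData.coprime_of_eq (a := -(q : ℤ) + (q : ℤ) ^ 3 - (q : ℤ) ^ 5 + (q : ℤ) ^ 7) (by rw [hm]; ring)) hr.prime hrm
    (good_E8_20 hm hr.prime hrm (by omega)) hK

end Cfsg.Agent.H515.OddM
end

-- part: H190/Odd/Idx8
section
/-!
# The `2`-part of the index of `F₄(q)`, `L₃(q⁴)` in overgroups

* `index_two` : `S` normal, `Big`, the elements of order `r` of `S` real in `S`: `2 |G : S| ∣ e m`;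
* `real_F4` : the elements of class `12` in `F₄(q)` are real;
* `kill_index` : the arithmetic.
-/

set_option autoImplicit false
set_option linter.unusedSectionVars false

namespace Cfsg.Agent.H190.Odd

open Subgroup Cfsg.Agent.H56.Exc

universe u

/-- an element inverting an element of odd prime order has even order -/
theorem two_dvd_of_inv {G : Type*} [Group G] [Finite G] {x y : G} {r : ℕ} (hr : r.Prime) (hr2 : r ≠ 2)
    (hx : orderOf x = r) (h : y * x * y⁻¹ = x⁻¹) : 2 ∣ orderOf y := by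
  by_contra hodd
  have h1 : y ^ 2 * x * (y ^ 2)⁻¹ = x := by
    have e1 : y ^ 2 * x * (y ^ 2)⁻¹ = y * (y * x * y⁻¹) * y⁻¹ := by rw [pow_two]; group
    rw [e1, h, ← conj_inv, h, inv_inv]
  have hc : Commute (y ^ 2) x := by
    rw [mul_inv_eq_iff_eq_mul] at h1
    exact h1
  obtain ⟨m, hm⟩ : ∃ m, orderOf y + 1 = 2 * m := ⟨(orderOf y + 1) / 2, by omega⟩
  have h2 : (y ^ 2) ^ m = y := by
    rw [← pow_mul, ← hm, pow_succ, pow_orderOf_eq_one, one_mul]
  have h3 : Commute y x := by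
    have := hc.pow_left m
    rwa [h2] at this
  rw [h3.eq, mul_inv_cancel_right] at h
  have h4 : x ^ 2 = 1 := by
    rw [pow_two]
    nth_rewrite 1 [h]
    exact inv_mul_cancel x
  have h5 := orderOf_dvd_of_pow_eq_one h4
  rw [hx] at h5
  exact hr2 ((Nat.prime_dvd_prime_iff_eq hr Nat.prime_two).1 h5)

theorem mem_normalizer_of_inv {G : Type*} [Group G] {x y : G} (h : y * x * y⁻¹ = x⁻¹) :
    y ∈ normalizer (zpowers x : Set G) := by
  have h' : y⁻¹ * x * y = x⁻¹ := by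
    have h1 : x = (y * x * y⁻¹)⁻¹ := by rw [h, inv_inv]
    have h2 : y⁻¹ * (y * x * y⁻¹)⁻¹ * y = x⁻¹ := by group
    rwa [← h1] at h2
  rw [mem_normalizer_iff]
  intro a
  constructor
  · rintro ⟨j, rfl⟩
    show y * x ^ j * y⁻¹ ∈ _
    rw [← conj_zpow, h]
    exact zpow_mem (inv_mem (mem_zpowers x)) j
  · rintro ⟨j, hj⟩
    have hj' : x ^ j = y * a * y⁻¹ := hj
    have h1 : a = (y⁻¹ * x * y) ^ j := by
      have h2 := conj_zpow (i := j) (a := y⁻¹) (b := x)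
      rw [inv_inv] at h2
      rw [h2, hj']
      group
    rw [h1, h']
    exact zpow_mem (inv_mem (mem_zpowers x)) j

/-- **The index of a normal subgroup with real elements of order `r`.** -/
theorem index_two {G : Type u} [Group G] [Finite G] {r m e : ℕ} (h : Big G r m e) (S : Subgroup G) [hSn : S.Normal]
    (hrS : r ∣ Nat.card S) (hr2 : r ≠ 2) (hreal : ∀ x : S, orderOf x = r → ∃ y : S, y * x * y⁻¹ = x⁻¹) :
    S.index * 2 ∣ e * m := by
  have hr := h.prime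
  have : Fact r.Prime := ⟨hr⟩
  obtain ⟨P₀⟩ : Nonempty (Sylow r S) := inferInstance
  have hP₀1 : (P₀ : Subgroup S) ≠ ⊥ := by
    intro h1
    have h2 := P₀.card_eq_multiplicity
    rw [h1, Subgroup.card_bot] at h2
    have h3 : 1 ≤ (Nat.card S).factorization r :=
      (hr.dvd_iff_one_le_factorization Nat.card_pos.ne').1 hrS
    have h4 := Nat.one_lt_pow (Nat.one_le_iff_ne_zero.1 h3) hr.one_lt
    omega
  obtain ⟨x, hxP₀, hx, -⟩ := exists_central_orderOf P₀.2 hP₀1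
  have hxG : orderOf (x : G) = r := by rw [Subgroup.orderOf_coe, hx]
  have hcyc : IsCyclic ↥((P₀ : Subgroup S).map S.subtype) := h.isCyclic_of_isPGroup (P₀.2.map _)
  have hF := Sylow.normalizer_sup_eq_top P₀
  set N := normalizer (((P₀ : Subgroup S).map S.subtype : Subgroup G) : Set G) with hN
  set N' := normalizer (zpowers (x : G) : Set G) with hN'
  have hNle : N ≤ N' := by
    have hsub : ∀ y ∈ N, y * (x : G) * y⁻¹ ∈ zpowers (x : G) := by
      intro y hy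
      have h1 : y * (x : G) * y⁻¹ ∈ (P₀ : Subgroup S).map S.subtype :=
        (mem_normalizer_iff.1 hy (x : G)).1 ⟨x, hxP₀, rfl⟩
      exact mem_zpowers_of_cyclic hcyc ⟨x, hxP₀, rfl⟩ h1 (by
        rw [show orderOf (y * (x : G) * y⁻¹) = orderOf (x : G) from by
          rw [← MulAut.conj_apply]; exact (MulAut.conj y).orderOf_eq _])
    have hsub' : ∀ y ∈ N, ∀ a ∈ zpowers (x : G), y * a * y⁻¹ ∈ zpowers (x : G) := by
      rintro y hy _ ⟨j, rfl⟩
      show y * (x : G) ^ j * y⁻¹ ∈ _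
      rw [← conj_zpow]
      exact zpow_mem (hsub y hy) j
    intro y hy
    rw [mem_normalizer_iff]
    intro a
    refine ⟨fun ha => hsub' y hy a ha, fun ha => ?_⟩
    have := hsub' y⁻¹ (inv_mem hy) _ ha
    have e1 : y⁻¹ * (y * a * y⁻¹) * y⁻¹⁻¹ = a := by group
    rwa [e1] at this
  have hF' : N' ⊔ S = ⊤ := by
    rw [eq_top_iff, ← hF]
    exact sup_le_sup_right hNle S
  have h1 : S.index = S.relIndex N' := by
    rw [← relIndex_top_right, ← hF', sup_comm, relIndex_sup_left]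
  obtain ⟨y, hy⟩ := hreal x hx
  have hyG : (y : G) * (x : G) * (y : G)⁻¹ = (x : G)⁻¹ := congrArg Subtype.val hy
  have hyN : (y : G) ∈ N' := mem_normalizer_of_inv hyG
  have h2 : 2 ∣ Nat.card ↥(S.subgroupOf N') := by
    have h3 : (⟨(y : G), hyN⟩ : N') ∈ S.subgroupOf N' := y.2
    have h4 : orderOf (⟨⟨(y : G), hyN⟩, h3⟩ : ↥(S.subgroupOf N')) = orderOf (y : G) := by
      rw [← Subgroup.orderOf_coe, ← Subgroup.orderOf_coe]
    exact ((two_dvd_of_inv hr hr2 hxG hyG).trans h4.symm.dvd).trans (_root_.orderOf_dvd_natCard _)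
  rw [h1]
  refine dvd_trans ?_ (h.card_normalizer_dvd hxG)
  show S.relIndex N' * 2 ∣ Nat.card N'
  rw [← (S.subgroupOf N').index_mul_card]
  exact mul_dvd_mul_left _ h2

/-! ### `F₄(q)` -/

section F4

open Cfsg Cfsg.Lie Cfsg.Lie.ChevalleyDatum Cfsg.Agent.H436
open Cfsg.Agent.H129 Cfsg.Agent.H129.CycT Cfsg.Agent.H129.CycCard Cfsg.Agent.H129.TorusChar Cfsg.Agent.H129.TorusTw
  Cfsg.Agent.H129.WData Cfsg.Agent.H129.TorAct Cfsg.Agent.H129.RealT Cfsg.Agent.H515.OddM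

variable {F : Type u} [Field F] [Fintype F] {q : ℕ}

/-- the elements of class `12` in `F₄(q)` are real -/
theorem real_F4 (hq : Fintype.card F = q) {r : ℕ} (hr : Prim q 12 r) {x : ↥(chevF4.group F)} (hx : orderOf x = r) :
    ∃ y : ↥(chevF4.group F), y * x * y⁻¹ = x⁻¹ := by
  have : Finite CoxeterMatrix.F₄.Group := Nat.finite_of_card_ne_zero (by rw [cardW_F4]; norm_num)
  have h := prim_dvd_12 hr
  have hlt := prim_lt hr (by norm_num)
  obtain ⟨m, hm⟩ := Cfsg.Agent.H515.OddM.exists_nat (z := 1 - (q : ℤ) ^ 2 + (q : ℤ) ^ 4)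
    (by linarith only [sq_nonneg ((q : ℤ) ^ 2 - 1), _root_.sq_nonneg (↑q : ℤ), _root_.sq_nonneg (↑q ^ 2 - 1 : ℤ)])
  have hrm : r ∣ m := dvd_of_int h (by rw [hm, mul_one])
  have hg := good_F4_12 hm hr.prime hrm
  obtain ⟨T, h1, h2, h3, h4⟩ := neg_T typeF4 CoxeterMatrix.F₄.toCoxeterSystem (by norm_num) hq TorusChar.invC_F4
    (Cfsg.Agent.H696.GmnNeg.negF4 typeF4 _) DataF4h.hA
    DataF4h.chainOK DataF4h.cycOK DataF4h.rootOK (by rw [DataF4h.fN_eq, hm])
    (UntwData.coprime_of_eq (a := -(q : ℤ) + (q : ℤ) ^ 3) (by rw [hm]; ring))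
  obtain ⟨y, hy⟩ := h4 r hr.prime hrm hg.1 hg.2
  obtain ⟨g, hgT, -⟩ := centralizer_conj h1 hr.prime (h2 ▸ hrm) (h3 r hr.prime hg.1 hg.2) hx
  refine ⟨g⁻¹ * y * g, ?_⟩
  have h5 := hy _ hgT
  calc g⁻¹ * y * g * x * (g⁻¹ * y * g)⁻¹ = g⁻¹ * (y * (g * x * g⁻¹) * y⁻¹) * g := by group
    _ = x⁻¹ := by rw [h5]; group

theorem real_named_F4 {S : Type*} [Group S] (hS : IsNamed (.f4 q) S) {r : ℕ} (hr : Prim q 12 r) {x : S}
    (hx : orderOf x = r) : ∃ y : S, y * x * y⁻¹ = x⁻¹ := by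
  obtain ⟨K, _, _, hK, ⟨e⟩⟩ := hS.real
  obtain ⟨y, hy⟩ := real_F4 hK hr (x := e x) (by rw [← hx]; exact MulEquiv.orderOf_eq e x)
  refine ⟨e.symm y, e.injective ?_⟩
  rw [map_mul, map_mul, map_inv, map_inv, e.apply_symm_apply]
  exact hy

/-- the order of `L₃(Q)` -/
theorem psl3_num {S : Type*} [Group S] {Q : ℕ} (hS : IsNamed (.psl 3 Q) S) (hQ : 2 ≤ Q) :
    Nat.gcd 3 (Q - 1) * Nat.card S = Q ^ 3 * ((Q ^ 2 - 1) * (Q ^ 3 - 1)) := by
  have h : Nat.gcd 3 (Q - 1) * (Q - 1) * Nat.card S = (Q ^ 3 - Q ^ 0) * ((Q ^ 3 - Q ^ 1) * ((Q ^ 3 - Q ^ 2) * 1)) := hS.eq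
  have h0 : 0 < Q - 1 := by omega
  apply Nat.eq_of_mul_eq_mul_left h0
  rw [show (Q - 1) * (Nat.gcd 3 (Q - 1) * Nat.card S) = Nat.gcd 3 (Q - 1) * (Q - 1) * Nat.card S by ring, h]
  obtain ⟨k, rfl⟩ := Nat.exists_eq_add_of_le' hQ
  have e1 : (k + 2) ^ 3 - (k + 2) ^ 1 = (k + 2) * ((k + 2) ^ 2 - 1) := by
    rw [Nat.mul_sub, mul_one, pow_one]
    congr 1
    ring
  have e2 : (k + 2) ^ 3 - (k + 2) ^ 2 = (k + 2) ^ 2 * (k + 2 - 1) := by
    rw [Nat.mul_sub, mul_one]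
    congr 1
  rw [e1, e2, pow_zero, mul_one]
  ring

end F4

/-! ### arithmetic -/

/-- the arithmetic -/
theorem kill_index {D d X S I J NS C a : ℕ} (hX : D * X = NS * C) (hS : d * S = NS) (hXS : X = J * (I * S)) (hS0 : 0 < S)
    (hD : Odd D) (hJ : Odd J) (h2 : 2 ^ a ∣ C) : 2 ^ a ∣ I := by
  have h1 : (D * J) * I = d * C := by
    apply Nat.eq_of_mul_eq_mul_right hS0
    calc (D * J) * I * S = D * (J * (I * S)) := by ring
      _ = D * X := by rw [hXS]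
      _ = NS * C := hX
      _ = d * C * S := by rw [← hS]; ring
  have h3 : 2 ^ a ∣ (D * J) * I := by rw [h1]; exact h2.mul_left _
  refine (Nat.Coprime.dvd_of_dvd_mul_left ?_ h3)
  exact Nat.Coprime.pow_left a (Nat.coprime_two_left.2 (hD.mul hJ))

theorem two_dvd_sub {q n : ℕ} (ho : Odd q) : 2 ∣ q ^ n - 1 := by
  have h1 : Odd (q ^ n) := ho.pow
  obtain ⟨k, hk⟩ := h1
  rw [hk, Nat.add_sub_cancel]
  exact Dvd.intro _ rfl

theorem two_dvd_add {q n : ℕ} (ho : Odd q) : 2 ∣ q ^ n + 1 := by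
  have h1 : Odd (q ^ n) := ho.pow
  obtain ⟨k, hk⟩ := h1
  rw [hk]
  exact ⟨k + 1, by ring⟩

end Cfsg.Agent.H190.Odd
end

-- part: H515/OddM/E7
section
/-!
# S4785 (TEAM ODDM), `E₇(q)`, `q` odd: the full parts of the classes 7 and 18 (helper515)
-/

set_option autoImplicit false

namespace Cfsg.Agent.H515.OddM

open Cfsg Cfsg.Lie Cfsg.Lie.ChevalleyDatum Cfsg.Agent.H290.ElMain Cfsg.Agent.H290.ElE7
open Cfsg.Agent.H436 (Prim exists_prim)
open Cfsg.Agent.ChevalleyStructure Cfsg.Agent.ChevalleyStructure.Elts Cfsg.Agent.ChevalleyStructure.CoxeterGeom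
  Cfsg.Agent.ChevalleyStructure.CoxeterGeomTypes Cfsg.Agent.ChevalleyStructure.NPerm
open Cfsg.Agent.Nodes.RGDChev
open Cfsg.Agent.H129 Cfsg.Agent.H129.CycT Cfsg.Agent.H129.TorusChar Cfsg.Agent.H129.TorusTw Cfsg.Agent.H129.WData
  Cfsg.Agent.H129.TorAct Cfsg.Agent.H129.RealT
open Cfsg.Agent.H453.OddM

section E7

variable {F : Type} [Field F] [Fintype F] {q : ℕ}

theorem e7_of (hq : Fintype.card F = q) (ho : Odd q) {A : Mat 7} (hA : ∀ i j, A i j = cartanOf chevE7 7 i j)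
    {L : List (Fin 7 × Mat 7)} (hL : ChainOK A L)
    {V B : Mat 7} {c : Fin 7 → ℤ} (hcyc : CycOK 7 (hd L) V B c) {m : ℕ} {R : Fin m → Fin 7 → ℤ} {prv dep : ℕ → ℕ}
    (hR : RootOK chevE7 7 (hd L) R prv dep) {N : ℕ} (hfN : fN c (q : ℤ) = N) (hqN : q.Coprime N) {r : ℕ}
    (hr : r.Prime) (hrN : r ∣ N) (hr2 : r ≠ 2)
    (hgood : ¬ r ∣ Nat.card CoxeterMatrix.E₇.Group ∧ ∀ s, ¬ (r : ℤ) ∣ Gq B (q : ℤ) (R s))
    {M : Subgroup ↥(chevE7.group F)} (hM : ∀ x, IsReal x → ∃ g : ↥(chevE7.group F), g * x * g⁻¹ ∈ M) :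
    ¬ r ∣ M.index := by
  have := finite_W7
  obtain ⟨T, h3, h4, h5, h6⟩ := HalfT.half_E7 hq ho typeE7 hA hL hcyc hR hfN hqN
  obtain ⟨y, hy⟩ := h6 ⟨r, hr, hrN, hgood.1, hgood.2⟩
  refine not_dvd_index h3 hr ?_ (h5 r hr hgood.1 hgood.2) (fun x hx _ => ⟨y, hy x hx⟩) hM
  rw [← h4] at hrN
  exact (hr.dvd_mul.1 hrN).resolve_left fun h => hr2 ((Nat.prime_dvd_prime_iff_eq hr Nat.prime_two).1 h)

theorem e7_off7 (hq : Fintype.card F = q) (ho : Odd q) {M : Subgroup ↥(chevE7.group F)}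
    (hM : ∀ x, IsReal x → ∃ g : ↥(chevE7.group F), g * x * g⁻¹ ∈ M) {r : ℕ} (hr : Prim q 7 r) : ¬ r ∣ M.index := by
  have h2 : 2 ≤ q := hq ▸ Fintype.one_lt_card
  have hN := Int.toNat_of_nonneg (show (0 : ℤ) ≤ 1 + (q : ℤ) + (q : ℤ) ^ 2 + (q : ℤ) ^ 3 + (q : ℤ) ^ 4 + (q : ℤ) ^ 5 +
    (q : ℤ) ^ 6 by positivity)
  have hrN : r ∣ _ := dvd_of_id hr (by omega) (a := 1) (b := 1) (c := 1) (by decide) (by decide) (by decide)
    (by rw [hN]; exact ⟨((q : ℤ) - 1) ^ 2, by ring⟩)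
  obtain ⟨k, hk⟩ := mod_of_prim hr (by omega)
  have := hr.prime.two_le
  have := hr.odd (by norm_num)
  obtain ⟨h3, h4⟩ := fN_7 h2 hN
  exact e7_of hq ho DataE7s.hA DataE7s.chainOK DataE7s.cycOK DataE7s.rootOK h3 h4 hr.prime (hrN.mul_left _) (by omega)
    (good_E7_7 hN hr.prime hrN (by omega)) hM

theorem e7_off18 (hq : Fintype.card F = q) (ho : Odd q) {M : Subgroup ↥(chevE7.group F)}
    (hM : ∀ x, IsReal x → ∃ g : ↥(chevE7.group F), g * x * g⁻¹ ∈ M) {r : ℕ} (hr : Prim q 18 r) : ¬ r ∣ M.index := by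
  have h2 : 2 ≤ q := hq ▸ Fintype.one_lt_card
  have hpos : (0 : ℤ) ≤ 1 - (q : ℤ) ^ 3 + (q : ℤ) ^ 6 := by
    obtain ⟨a, rfl⟩ := Nat.exists_eq_add_of_le' h2
    push_cast
    ring_nf
    (clear * -; positivity)
  have hN := Int.toNat_of_nonneg hpos
  have hrN : r ∣ _ := dvd_of_id hr (by omega) (a := 9) (b := 6) (c := 1) (by decide) (by decide) (by decide)
    (by rw [hN]; exact ⟨((q : ℤ) ^ 3 - 1) * ((q : ℤ) - 1), by ring⟩)
  obtain ⟨k, hk⟩ := mod_of_prim hr (by omega)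
  have := hr.prime.two_le
  have := hr.odd (by norm_num)
  refine e7_of hq ho DataE7h.hA DataE7h.chainOK DataE7h.cycOK DataE7h.rootOK (N := (q + 1) * _) ?_ ?_ hr.prime
    (hrN.mul_left _) (by omega) (good_18 hN hr.prime hrN (by omega)) hM
  · rw [DataE7h.fN_eq, Nat.cast_mul, hN]; push_cast; ring
  · exact UntwData.coprime_of_eq (a := 1 - (q : ℤ) ^ 2 - (q : ℤ) ^ 3 + (q : ℤ) ^ 5 + (q : ℤ) ^ 6)
      (by rw [Nat.cast_mul, hN]; push_cast; ring)

/-- the classes 7 and 18 -/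
theorem e7_off (ho : Odd (Fintype.card F)) {M : Subgroup ↥(chevE7.group F)}
    (hM : ∀ x, IsReal x → ∃ g : ↥(chevE7.group F), g * x * g⁻¹ ∈ M) :
    Cfsg.Agent.H563.KG.Off (Fintype.card F) [18, 7] M := by
  intro e he r hr
  simp only [List.mem_cons, List.not_mem_nil, or_false] at he
  rcases he with rfl | rfl
  · exact e7_off18 rfl ho hM hr
  · exact e7_off7 rfl ho hM hr

end E7

end Cfsg.Agent.H515.OddM
end

-- part: H515/OddM/RowE7
section
/-!
# S4785 (TEAM ODDM): the row `E₇(q)`, `q` odd (helper515)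
-/

set_option autoImplicit false

namespace Cfsg.Agent.H515.OddM

open Cfsg Cfsg.Lie Cfsg.Agent.OrdDiv Cfsg.Agent.H436 Cfsg.Agent.H453.OddM Cfsg.Agent.H563.KG Cfsg.Agent.H56.Exc

universe u

theorem odd_of_not {q : ℕ} (h : ¬ 2 ∣ q) : Odd q := Nat.not_even_iff_odd.1 fun h1 => h (even_iff_two_dvd.1 h1)

/-- **The row `E₇(q)`, `q` odd.** -/
theorem row_e7_of (tb : OrderTable.{0}) (hcyc : CycFixSolv.{0}) (hcf : CF) (q : ℕ) (hq : ¬ 2 ∣ q) :
    RowN.{u} (.e7 q) := by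
  intro T _ _ _ h
  obtain ⟨F, _, _, hF, ⟨e⟩⟩ := h.real
  refine (Row.congr e.symm fun R hR => ?_).row8
  subst hF
  exact K_E7b tb hcyc hcf R (e7_off (odd_of_not hq) hR.cov.2)

end Cfsg.Agent.H515.OddM
end

-- part: H190/Odd/K8E6
section
/-!
# Subgroups of odd index of `E₆(q)`, `q` odd, of index prime to the classes 8, 12 (S4785)

* `K8_E6` : such a subgroup is the whole group;
* `row_e6_of` : the row `E₆(q)`, `q` odd, of S4785.
-/

set_option autoImplicit false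

namespace Cfsg.Agent.H190.Odd

open Cfsg Cfsg.Agent.OrdDiv Cfsg.Agent.H436 Cfsg.Agent.H902 Cfsg.Agent.H290.ElReg Cfsg.Agent.H290.ElTab
  Cfsg.Agent.H56.Exc Cfsg.Agent.H325.Loc Cfsg.Agent.H915.GN Cfsg.Agent.H264.FKS Cfsg.Agent.H325.Same Cfsg.Agent.H325.IsoExc
  Cfsg.Agent.H325.IsoFree Cfsg.Agent.H563.KG Cfsg.Agent.H453.OddM

universe u

theorem tbl_E6_8 : Tbl 78 .E6 [12, 8] 12 where
  hn := by norm_num
  hb := bndR_78_12
  hs := svR_E6b
  hbS := bndS_12
  hsS := svS_E6b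
  he₀ := c12
  hmem := by decide
  hle := fun _ => le_seven12

/-- the orders of the tori of `E₆(q)` of the classes 8, 12 -/
def M8E (q c : ℕ) : ℕ := if c = 12 then Ph 12 q * (q ^ 2 + q + 1) else Ph 8 q * (q ^ 2 - 1)

theorem odd_Ph12 {q : ℕ} (ho : Odd q) (hq : 1 ≤ q) : Odd (Ph 12 q) := by
  have h : ((Ph 12 q : ℕ) : ℤ) = _ := cast_Ph12 _ hq
  obtain ⟨k, rfl⟩ := ho
  have h1 : ((Ph 12 (2 * k + 1) : ℕ) : ℤ) = 2 * (8 * k ^ 4 + 16 * k ^ 3 + 10 * k ^ 2 + 2 * k) + 1 := by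
    rw [h]; push_cast; ring
  rw [← Nat.not_even_iff_odd, ← Int.even_coe_nat, h1]
  rintro ⟨m, hm⟩
  omega

theorem odd_gcd3' {n : ℕ} : Odd (Nat.gcd 3 n) := by
  rcases (Nat.dvd_prime Nat.prime_three).1 (Nat.gcd_dvd_left 3 n) with h | h <;> rw [h] <;> decide

/-- the arithmetic at the end -/
theorem not_eight {m : ℕ} (hm : Odd m) : ¬ 8 ∣ 12 * m := by
  rintro ⟨k, hk⟩
  obtain ⟨j, rfl⟩ := hm
  omega

theorem index_mul {G : Type*} [Group G] (B : Subgroup G) (S : Subgroup B) :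
    Nat.card G = B.index * (S.index * Nat.card S) := by
  rw [S.index_mul_card, B.index_mul_card]

theorem card_centralizer_sub {G : Type*} [Group G] (B : Subgroup G) (x : B) :
    Nat.card ↥(Subgroup.centralizer ({x} : Set ↥B)) ∣ Nat.card ↥(Subgroup.centralizer ({(x : G)} : Set G)) := by
  have h2 : (Subgroup.centralizer ({x} : Set ↥B)).map B.subtype ≤ Subgroup.centralizer ({(x : G)}) := by
    rintro _ ⟨y, hy, rfl⟩
    rw [Subgroup.mem_centralizer_singleton_iff]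
    exact congrArg Subtype.val (Subgroup.mem_centralizer_singleton_iff.1 hy)
  have h3 : Nat.card ↥((Subgroup.centralizer ({x} : Set ↥B)).map B.subtype) = Nat.card ↥(Subgroup.centralizer ({x} : Set ↥B)) :=
    Nat.card_congr ((Subgroup.centralizer ({x} : Set ↥B)).equivMapOfInjective _ B.subtype_injective).symm.toEquiv
  exact h3 ▸ Subgroup.card_dvd_of_le h2

/-- **`E₆(q)`, `q` odd.** A subgroup of odd index, divisible by no primitive prime divisor of `q^8 - 1` or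
`q^12 - 1`, is the whole group. -/
theorem K8_E6 (tb : OrderTable.{0}) (hcyc : CycFixSolv.{0}) (hcf : CF) {F : Type} [Field F] [Fintype F]
    (ho : ¬ 2 ∣ Fintype.card F)
    (B : Subgroup ↥(Lie.chevE6.group F)) (hoff : Off (Fintype.card F) [12, 8] B) (hodd : Odd B.index) : B = ⊤ := by
  obtain ⟨p, f, _, hp, hf, hq⟩ := exists_pf F
  have := Fact.mk hp
  have hfin : Finite ↥(Lie.chevE6.group F) := inferInstance
  have hT := named_e6 (F := F) tb
  rw [hq] at hT hoff ho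
  have hq2 : 2 ≤ p ^ f := hp.two_le.trans (Nat.le_self_pow (by omega) p)
  have hq3 : 3 ≤ p ^ f := by
    rcases eq_or_lt_of_le hq2 with h | h
    · exact absurd (h ▸ dvd_rfl) ho
    · exact h
  have hq1 : 1 ≤ p ^ f := by omega
  have hqo : Odd (p ^ f) := Cfsg.Agent.H515.OddM.odd_of_not ho
  have hOL : num (.e6 (p ^ f)) = OL .E6 (p ^ f) := rfl
  have hdT : Nat.card ↥(Lie.chevE6.group F) ∣ OL .E6 (p ^ f) := by
    rw [← hOL, ← hT.eq]
    exact Dvd.intro_left _ rfl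
  have hmem : ∀ c ∈ [12, 8], c = 12 ∨ c = 8 := by decide
  have hcl : ∀ c ∈ [12, 8], Cls c := by
    intro c hc
    have := hmem c hc
    unfold Cls
    (clear * - this; omega)
  have h7 : ∀ c ∈ [12, 8], 7 ≤ c := by decide
  have hnum : ∀ c ∈ [12, 8], ncl c (p ^ f) ∣ num (.e6 (p ^ f)) := by
    intro c hc
    have h1 : ∀ d ∈ [2, 5, 6, 8, 9, 12], (p ^ f) ^ d - 1 ∣ num (.e6 (p ^ f)) := by
      intro d hd
      show _ ∣ (p ^ f) ^ 36 * (((p ^ f) ^ 2 - 1) * ((p ^ f) ^ 5 - 1) * ((p ^ f) ^ 6 - 1) *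
        ((p ^ f) ^ 8 - 1) * ((p ^ f) ^ 9 - 1) * ((p ^ f) ^ 12 - 1))
      refine Dvd.dvd.mul_left ?_ _
      have h1 := List.dvd_prod (List.mem_map_of_mem (f := fun d => (p ^ f) ^ d - 1) hd)
      simp only [List.map_cons, List.map_nil, List.prod_cons, List.prod_nil, mul_one] at h1
      simp only [mul_assoc]
      exact h1
    refine (ncl_dvd_Ph c _).trans ((Ph_dvd (hcl c hc) hq1).trans (h1 c ?_))
    rcases hmem c hc with rfl | rfl <;> decide
  have hnT : ∀ c ∈ [12, 8], ncl c (p ^ f) ∣ Nat.card ↥(Lie.chevE6.group F) := fun c hc =>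
    ncl_dvd_card (hcl c hc) (h7 c hc) hq2 (den_pos hT.cond)
      ((Nat.gcd_le_left _ (by norm_num)).trans (by norm_num)) hT.eq (hnum c hc)
  have h12 : M8E (p ^ f) 12 = Ph 12 (p ^ f) * ((p ^ f) ^ 2 + p ^ f + 1) := rfl
  have h8 : M8E (p ^ f) 8 = Ph 8 (p ^ f) * ((p ^ f) ^ 2 - 1) := rfl
  have hm12 : ((Ph 12 (p ^ f) * ((p ^ f) ^ 2 + p ^ f + 1) : ℕ) : ℤ) =
      (1 - ((p ^ f : ℕ) : ℤ) ^ 2 + ((p ^ f : ℕ) : ℤ) ^ 4) * (1 + ((p ^ f : ℕ) : ℤ) + ((p ^ f : ℕ) : ℤ) ^ 2) := by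
    rw [Nat.cast_mul, cast_Ph12 _ hq1]; push_cast; ring
  have hm8 : ((Ph 8 (p ^ f) * ((p ^ f) ^ 2 - 1) : ℕ) : ℤ) =
      (1 + ((p ^ f : ℕ) : ℤ) ^ 4) * (((p ^ f : ℕ) : ℤ) ^ 2 - 1) := by
    rw [Nat.cast_mul, cast_Ph8, cast_sub_one hq1]; ring
  have hbig : ∀ c ∈ [12, 8], ∀ r, Prim (p ^ f) c r → Big ↥(Lie.chevE6.group F) r (M8E (p ^ f) c) c := by
    intro c hc r hr
    rcases hmem c hc with rfl | rfl
    · exact big_E6_12 hq hm12 hr
    · exact big_E6_8 hq hm8 hr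
  have hM : ∀ c ∈ [12, 8], M8E (p ^ f) c ∣ (p ^ f) ^ c - 1 := by
    intro c hc
    rcases hmem c hc with rfl | rfl
    · refine dvd_of_cast (c := (((p ^ f : ℕ) : ℤ) ^ 2 + 1) * (((p ^ f : ℕ) : ℤ) ^ 2 - 1) * (((p ^ f : ℕ) : ℤ) ^ 2 - (p ^ f : ℕ) + 1)) ?_
      rw [h12, cast_sub_one hq1, hm12]
      ring
    · refine dvd_of_cast (c := (((p ^ f : ℕ) : ℤ) ^ 2 + 1)) ?_
      rw [h8, cast_sub_one hq1, hm8]
      ring
  obtain ⟨r₀, hr₀⟩ := exists_prim hq2 (show 3 ≤ 12 by norm_num) (by norm_num)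
  have hpiso : PIso p r₀ ↥(Lie.chevE6.group F) := piso_E6_12 (F := F) (by rw [hq]; exact hr₀)
  have ho12 : Ord ↥(Lie.chevE6.group F) (p ^ f) 12 (Ph 12 (p ^ f) * ((p ^ f) ^ 2 + p ^ f + 1)) :=
    fun r hr x hx => (big_E6_12 hq hm12 hr).card x hx
  have ho8 : Ord ↥(Lie.chevE6.group F) (p ^ f) 8 (Ph 8 (p ^ f) * ((p ^ f) ^ 2 - 1)) :=
    fun r hr x hx => (big_E6_8 hq hm8 hr).card x hx
  have hdB : Nat.card ↥B ∣ OL .E6 (p ^ f) := (Subgroup.card_subgroup_dvd_card B).trans hdT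
  obtain ⟨S, hSn, hSs, hSna, hnS, hidx, hbS, g, hg, hch⟩ := core_kill tb hcyc hcf tbl_E6_8 (fam := [12, 8])
    (fun c hc => hc) (M := M8E (p ^ f)) (E := fun c => c)
    (e := 12) (e' := 8) (by decide) (by decide) (dist_12_8 hq2) hcl h7 hp hf (F := F) fth_E6 hdT
    hbig hM
    (fun c hc s hs hd => le_seven' hs (n := c) (by have := hmem c hc; (clear * - this; omega)) hd)
    (by decide) hnT (c₀ := 12) (by decide) hr₀ hpiso hoff (fun t ht htp htn htB => by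
      refine good_e6b (by norm_num) hq3 ho (ho12.sub B) ?_ (ho8.sub B) ?_ hdB ?_ ?_ ht ?_
        (htn 12 (by decide)) (htn 8 (by decide)) htB
      · intro h3 r hr x hx h
        exact (exact_e6_12 hq h3 hr (x := (x : ↥(Lie.chevE6.group F))) (by rw [Subgroup.orderOf_coe]; exact hx)).2
          (h.trans (card_centralizer_sub B x))
      · intro r hr x hx
        exact ((hbig 8 (by decide) r hr).subgroup B).cyc x hx
      · exact hoff.ncl_dvd (by decide) c12 hq1 (hnT 12 (by decide))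
      · exact hoff.ncl_dvd (by decide) c8 hq1 (hnT 8 (by decide))
      · intro h
        exact htp ((Nat.prime_dvd_prime_iff_eq ht hp).1 (ht.dvd_of_dvd_pow h)))
  have hdS : Nat.card S ∣ num (.e6 (p ^ f)) := IsNamed.card_dvd hT S
  have hM12 : Odd (M8E (p ^ f) 12) := by
    rw [h12]
    refine (odd_Ph12 hqo hq1).mul ?_
    have h1 : Odd ((p ^ f) ^ 2 + p ^ f + 1) := ((hqo.pow).add_odd hqo).add_one
    exact h1
  have hTeq : Nat.gcd 3 (p ^ f - 1) * Nat.card ↥(Lie.chevE6.group F) = (p ^ f) ^ 36 * (((p ^ f) ^ 2 - 1) * ((p ^ f) ^ 5 - 1) *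
      ((p ^ f) ^ 6 - 1) * ((p ^ f) ^ 8 - 1) * ((p ^ f) ^ 9 - 1) * ((p ^ f) ^ 12 - 1)) := hT.eq
  rcases charp_e6_812 hp hf hg.cond hch hg.eq hdS (fun s hs _ => (hbS 8 (by decide) s hs).2.2)
    (fun s hs _ => (hbS 12 (by decide) s hs).2.2) with rfl | rfl | rfl
  · exact eq_top_of_name hT hg
  · exfalso
    have h1 : S.index * 2 ∣ 12 * M8E (p ^ f) 12 := by
      refine index_two ((hbig 12 (by decide) r₀ hr₀).subgroup B) S (hbS 12 (by decide) r₀ hr₀).2.2 ?_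
        fun x hx => real_named_F4 hg hr₀ hx
      have := lt_of_prim hq2 (by norm_num) hr₀
      omega
    have h2 : 1 * Nat.card S = (p ^ f) ^ 24 * (((p ^ f) ^ 2 - 1) * ((p ^ f) ^ 6 - 1) * ((p ^ f) ^ 8 - 1) *
      ((p ^ f) ^ 12 - 1)) := hg.eq
    have h3 : 2 ^ 2 ∣ S.index := by
      refine kill_index (C := (p ^ f) ^ 12 * (((p ^ f) ^ 5 - 1) * ((p ^ f) ^ 9 - 1))) ?_ h2 (index_mul B S) Nat.card_pos
        (odd_gcd3' (n := p ^ f - 1)) hodd ?_
      · rw [hTeq]; ring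
      · rw [pow_two]
        exact (mul_dvd_mul (two_dvd_sub hqo) (two_dvd_sub hqo)).mul_left _
    exact not_eight hM12 ((mul_dvd_mul_right h3 2).trans h1)
  · exfalso
    have h1 : S.index ∣ 12 * M8E (p ^ f) 12 := hidx 12 (by decide)
    have hQ : p ^ (4 * f) = (p ^ f) ^ 4 := by rw [← pow_mul, mul_comm]
    have hQ2 : 2 ≤ (p ^ f) ^ 4 := hq2.trans (Nat.le_self_pow (by norm_num) _)
    rw [hQ] at hg
    have h2 := psl3_num hg hQ2
    have h3 : 2 ^ 3 ∣ S.index := by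
      refine kill_index (C := (p ^ f) ^ 24 * ((((p ^ f) ^ 2 - 1) * ((p ^ f) ^ 5 - 1) * ((p ^ f) ^ 6 - 1)) *
        ((p ^ f) ^ 9 - 1))) ?_ h2
        (index_mul B S) Nat.card_pos (odd_gcd3' (n := p ^ f - 1)) hodd ?_
      · rw [hTeq, ← pow_mul, ← pow_mul, ← pow_mul]; ring_nf
      · refine Dvd.dvd.mul_left (Dvd.dvd.mul_right ?_ _) _
        exact mul_dvd_mul (mul_dvd_mul (two_dvd_sub hqo) (two_dvd_sub hqo)) (two_dvd_sub hqo)
    exact not_eight hM12 (h3.trans h1)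

/-- **The row `E₆(q)`, `q` odd.** -/
theorem row_e6_of (tb : OrderTable.{0}) (hcyc : CycFixSolv.{0}) (hcf : CF) (q : ℕ) (hq : ¬ 2 ∣ q) :
    RowN.{u} (.e6 q) := by
  intro T _ _ _ h
  obtain ⟨F, _, _, hF, ⟨e⟩⟩ := h.real
  refine (Row.congr e.symm fun R hR => ?_).row8
  subst hF
  refine K8_E6 tb hcyc hcf hq R (fun c hc r hr => ?_) hR.cov.1
  have hc' : c = 12 ∨ c = 8 := by simpa using hc
  rcases hc' with rfl | rfl
  · exact off_e6_12 rfl hR.cov.2 hr
  · exact off_e6_8 rfl hR.cov.2 hr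

end Cfsg.Agent.H190.Odd
end
end

-- part: H190/Odd/K8TE6
section
set_option linter.all false
open scoped Cfsg.Agent.FastGrp

/-!
# Subgroups of odd index of `²E₆(q)`, `q` odd, of index prime to the classes 8, 12 (S4785)

* `K8_TE6` : such a subgroup is the whole group;
* `row_te6_of` : the row `²E₆(q)`, `q` odd, of S4785.
-/

set_option autoImplicit false

namespace Cfsg.Agent.H190.Odd

open Cfsg Cfsg.Agent.OrdDiv Cfsg.Agent.H436 Cfsg.Agent.H902 Cfsg.Agent.H290.ElReg Cfsg.Agent.H290.ElTab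
  Cfsg.Agent.H56.Exc Cfsg.Agent.H325.Loc Cfsg.Agent.H915.GN Cfsg.Agent.H264.FKS Cfsg.Agent.H325.Same Cfsg.Agent.H325.IsoExc
  Cfsg.Agent.H325.IsoFree Cfsg.Agent.H563.KG Cfsg.Agent.H453.OddM

universe u

theorem tbl_TE6_8 : Tbl 78 .TE6 [12, 8] 12 where
  hn := by norm_num
  hb := bndR_78_12
  hs := svR_TE6b
  hbS := bndS_12
  hsS := svS_TE6b
  he₀ := c12
  hmem := by decide
  hle := fun _ => le_seven12

/-- the orders of the tori of `²E₆(q)` of the classes 8, 12 -/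
def M8T (q c : ℕ) : ℕ := if c = 12 then Ph 12 q * (q ^ 2 - q + 1) else Ph 8 q * (q ^ 2 - 1)

/-- **`²E₆(q)`, `q` odd.** A subgroup of odd index, divisible by no primitive prime divisor of `q^8 - 1` or
`q^12 - 1`, is the whole group. -/
theorem K8_TE6 (tb : OrderTable.{0}) (hcyc : CycFixSolv.{0}) (hcf : CF) {F : Type} [Field F] [Fintype F] {q : ℕ}
    (hq : IsPrimePow q) (hK : Fintype.card F = q ^ 2) (ho : ¬ 2 ∣ q)
    (B : Subgroup ↥(Lie.twistedE6 F q)) (hoff : Off q [12, 8] B) (hodd : Odd B.index) : B = ⊤ := by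
  obtain ⟨p, f, _, hp, hf, rfl⟩ := exists_pf' hq hK
  have := Fact.mk hp
  have hfin : Finite ↥(Lie.twistedE6 F (p ^ f)) := inferInstance
  have hT := named_te6 (F := F) tb hq hK
  have hq2 : 2 ≤ p ^ f := hp.two_le.trans (Nat.le_self_pow (by omega) p)
  have hq3 : 3 ≤ p ^ f := by
    rcases eq_or_lt_of_le hq2 with h | h
    · exact absurd (h ▸ dvd_rfl) ho
    · exact h
  have hq1 : 1 ≤ p ^ f := by omega
  have hqo : Odd (p ^ f) := Cfsg.Agent.H515.OddM.odd_of_not ho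
  have hOL : num (.te6 (p ^ f)) = OL .TE6 (p ^ f) := rfl
  have hdT : Nat.card ↥(Lie.twistedE6 F (p ^ f)) ∣ OL .TE6 (p ^ f) := by
    rw [← hOL, ← hT.eq]
    exact Dvd.intro_left _ rfl
  have hmem : ∀ c ∈ [12, 8], c = 12 ∨ c = 8 := by decide
  have hcl : ∀ c ∈ [12, 8], Cls c := by
    intro c hc
    have := hmem c hc
    unfold Cls
    omega
  have h7 : ∀ c ∈ [12, 8], 7 ≤ c := by decide
  have hnum : ∀ c ∈ [12, 8], ncl c (p ^ f) ∣ num (.te6 (p ^ f)) := by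
    intro c hc
    have h1 : ∀ d ∈ [8, 12], (p ^ f) ^ d - 1 ∣ num (.te6 (p ^ f)) := by
      intro d hd
      show _ ∣ (p ^ f) ^ 36 * (((p ^ f) ^ 2 - 1) * ((p ^ f) ^ 5 + 1) * ((p ^ f) ^ 6 - 1) *
        ((p ^ f) ^ 8 - 1) * ((p ^ f) ^ 9 + 1) * ((p ^ f) ^ 12 - 1))
      refine Dvd.dvd.mul_left ?_ _
      have hd' : d = 8 ∨ d = 12 := by simpa using hd
      rcases hd' with rfl | rfl
      · exact (Dvd.intro_left _ rfl).trans ((Dvd.intro _ rfl).trans (Dvd.intro _ rfl))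
      · exact Dvd.intro_left _ rfl
    refine (ncl_dvd_Ph c _).trans ((Ph_dvd (hcl c hc) hq1).trans (h1 c ?_))
    rcases hmem c hc with rfl | rfl <;> decide
  have hnT : ∀ c ∈ [12, 8], ncl c (p ^ f) ∣ Nat.card ↥(Lie.twistedE6 F (p ^ f)) := fun c hc =>
    ncl_dvd_card (hcl c hc) (h7 c hc) hq2 (den_pos hT.cond)
      ((Nat.gcd_le_left _ (by norm_num)).trans (by norm_num)) hT.eq (hnum c hc)
  have hle : p ^ f ≤ (p ^ f) ^ 2 := Nat.le_self_pow (by norm_num) _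
  have h12 : M8T (p ^ f) 12 = Ph 12 (p ^ f) * ((p ^ f) ^ 2 - p ^ f + 1) := rfl
  have h8 : M8T (p ^ f) 8 = Ph 8 (p ^ f) * ((p ^ f) ^ 2 - 1) := rfl
  have hm12 : ((Ph 12 (p ^ f) * ((p ^ f) ^ 2 - p ^ f + 1) : ℕ) : ℤ) =
      (1 - ((p ^ f : ℕ) : ℤ) ^ 2 + ((p ^ f : ℕ) : ℤ) ^ 4) * (1 - ((p ^ f : ℕ) : ℤ) + ((p ^ f : ℕ) : ℤ) ^ 2) := by
    rw [Nat.cast_mul, cast_Ph12 _ hq1, Nat.cast_add, Nat.cast_sub hle]; push_cast; ring
  have hm8 : ((Ph 8 (p ^ f) * ((p ^ f) ^ 2 - 1) : ℕ) : ℤ) =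
      (1 + ((p ^ f : ℕ) : ℤ) ^ 4) * (((p ^ f : ℕ) : ℤ) ^ 2 - 1) := by
    rw [Nat.cast_mul, cast_Ph8, cast_sub_one hq1]; ring
  have hbig : ∀ c ∈ [12, 8], ∀ r, Prim (p ^ f) c r → Big ↥(Lie.twistedE6 F (p ^ f)) r (M8T (p ^ f) c) c := by
    intro c hc r hr
    rcases hmem c hc with rfl | rfl
    · exact big_TE6_12 hq hK hm12 hr
    · exact big_TE6_8 hq hK hm8 hr
  have hM : ∀ c ∈ [12, 8], M8T (p ^ f) c ∣ (p ^ f) ^ c - 1 := by
    intro c hc
    rcases hmem c hc with rfl | rfl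
    · refine dvd_of_cast (c := (((p ^ f : ℕ) : ℤ) ^ 2 + 1) * (((p ^ f : ℕ) : ℤ) ^ 2 - 1) * (((p ^ f : ℕ) : ℤ) ^ 2 + (p ^ f : ℕ) + 1)) ?_
      rw [h12, cast_sub_one hq1, hm12]
      ring
    · refine dvd_of_cast (c := (((p ^ f : ℕ) : ℤ) ^ 2 + 1)) ?_
      rw [h8, cast_sub_one hq1, hm8]
      ring
  obtain ⟨r₀, hr₀⟩ := exists_prim hq2 (show 3 ≤ 12 by norm_num) (by norm_num)
  have hpiso : PIso p r₀ ↥(Lie.twistedE6 F (p ^ f)) := piso_twE6 hq hK (Or.inl rfl) hr₀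
  have ho12 : Ord ↥(Lie.twistedE6 F (p ^ f)) (p ^ f) 12 (Ph 12 (p ^ f) * ((p ^ f) ^ 2 - p ^ f + 1)) :=
    fun r hr x hx => (big_TE6_12 hq hK hm12 hr).card x hx
  have ho8 : Ord ↥(Lie.twistedE6 F (p ^ f)) (p ^ f) 8 (Ph 8 (p ^ f) * ((p ^ f) ^ 2 - 1)) :=
    fun r hr x hx => (big_TE6_8 hq hK hm8 hr).card x hx
  have hdB : Nat.card ↥B ∣ OL .TE6 (p ^ f) := (Subgroup.card_subgroup_dvd_card B).trans hdT
  obtain ⟨S, hSn, hSs, hSna, hnS, hidx, hbS, g, hg, hch⟩ := core_kill tb hcyc hcf tbl_TE6_8 (fam := [12, 8])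
    (fun c hc => hc) (M := M8T (p ^ f)) (E := fun c => c)
    (e := 12) (e' := 8) (by decide) (by decide) (dist_12_8 hq2) hcl h7 hp hf (F := F) (fth_TE6 _) hdT
    hbig hM
    (fun c hc s hs hd => le_seven' hs (n := c) (by have := hmem c hc; omega) hd)
    (by decide) hnT (c₀ := 12) (by decide) hr₀ hpiso hoff (fun t ht htp htn htB => by
      refine good_te6b (by norm_num) hq3 ho (ho12.sub B) ?_ (ho8.sub B) ?_ hdB ?_ ?_ ht ?_
        (htn 12 (by decide)) (htn 8 (by decide)) htB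
      · intro h3 r hr x hx h
        exact (exact_te6_12 hq hK h3 hr (x := (x : ↥(Lie.twistedE6 F (p ^ f))))
          (by rw [Subgroup.orderOf_coe]; exact hx)).2 (h.trans (card_centralizer_sub B x))
      · intro r hr x hx
        exact ((hbig 8 (by decide) r hr).subgroup B).cyc x hx
      · exact hoff.ncl_dvd (by decide) c12 hq1 (hnT 12 (by decide))
      · exact hoff.ncl_dvd (by decide) c8 hq1 (hnT 8 (by decide))
      · intro h
        exact htp ((Nat.prime_dvd_prime_iff_eq ht hp).1 (ht.dvd_of_dvd_pow h)))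
  have hdS : Nat.card S ∣ num (.te6 (p ^ f)) := IsNamed.card_dvd hT S
  have hM12 : Odd (M8T (p ^ f) 12) := by
    rw [h12]
    refine (odd_Ph12 hqo hq1).mul ?_
    have h1 : Even ((p ^ f) ^ 2 - p ^ f) := Nat.Odd.sub_odd hqo.pow hqo
    exact h1.add_one
  have hTeq : Nat.gcd 3 (p ^ f + 1) * Nat.card ↥(Lie.twistedE6 F (p ^ f)) = (p ^ f) ^ 36 * (((p ^ f) ^ 2 - 1) *
      ((p ^ f) ^ 5 + 1) * ((p ^ f) ^ 6 - 1) * ((p ^ f) ^ 8 - 1) * ((p ^ f) ^ 9 + 1) * ((p ^ f) ^ 12 - 1)) := hT.eq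
  rcases charp_te6_812 hp hf hg.cond hch hg.eq hdS (fun s hs _ => (hbS 8 (by decide) s hs).2.2)
    (fun s hs _ => (hbS 12 (by decide) s hs).2.2) with rfl | rfl | rfl
  · exact eq_top_of_name hT hg
  · exfalso
    have h1 : S.index * 2 ∣ 12 * M8T (p ^ f) 12 := by
      refine index_two ((hbig 12 (by decide) r₀ hr₀).subgroup B) S (hbS 12 (by decide) r₀ hr₀).2.2 ?_
        fun x hx => real_named_F4 hg hr₀ hx
      have := lt_of_prim hq2 (by norm_num) hr₀
      omega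
    have h2 : 1 * Nat.card S = (p ^ f) ^ 24 * (((p ^ f) ^ 2 - 1) * ((p ^ f) ^ 6 - 1) * ((p ^ f) ^ 8 - 1) *
      ((p ^ f) ^ 12 - 1)) := hg.eq
    have h3 : 2 ^ 2 ∣ S.index := by
      refine kill_index (C := (p ^ f) ^ 12 * (((p ^ f) ^ 5 + 1) * ((p ^ f) ^ 9 + 1))) ?_ h2 (index_mul B S) Nat.card_pos
        (odd_gcd3' (n := p ^ f + 1)) hodd ?_
      · rw [hTeq]; ring
      · rw [pow_two]
        exact (mul_dvd_mul (two_dvd_add hqo) (two_dvd_add hqo)).mul_left _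
    exact not_eight hM12 ((mul_dvd_mul_right h3 2).trans h1)
  · exfalso
    have h1 : S.index ∣ 12 * M8T (p ^ f) 12 := hidx 12 (by decide)
    have hQ : p ^ (4 * f) = (p ^ f) ^ 4 := by rw [← pow_mul, mul_comm]
    have hQ2 : 2 ≤ (p ^ f) ^ 4 := hq2.trans (Nat.le_self_pow (by norm_num) _)
    rw [hQ] at hg
    have h2 := psl3_num hg hQ2
    have h3 : 2 ^ 3 ∣ S.index := by
      refine kill_index (C := (p ^ f) ^ 24 * ((((p ^ f) ^ 2 - 1) * ((p ^ f) ^ 5 + 1) * ((p ^ f) ^ 6 - 1)) *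
        ((p ^ f) ^ 9 + 1))) ?_ h2
        (index_mul B S) Nat.card_pos (odd_gcd3' (n := p ^ f + 1)) hodd ?_
      · rw [hTeq, ← pow_mul, ← pow_mul, ← pow_mul]; ring_nf
      · refine Dvd.dvd.mul_left (Dvd.dvd.mul_right ?_ _) _
        exact mul_dvd_mul (mul_dvd_mul (two_dvd_sub hqo) (two_dvd_add hqo)) (two_dvd_sub hqo)
    exact not_eight hM12 (h3.trans h1)

/-- **The row `²E₆(q)`, `q` odd.** -/
theorem row_te6_of (tb : OrderTable.{0}) (hcyc : CycFixSolv.{0}) (hcf : CF) (q : ℕ) (hq : ¬ 2 ∣ q) :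
    RowN.{u} (.te6 q) := by
  intro T _ _ _ h
  obtain ⟨F, _, _, hF, ⟨e⟩⟩ := h.real
  refine (Row.congr e.symm fun R hR => ?_).row8
  refine K8_TE6 tb hcyc hcf h.cond hF hq R (fun c hc r hr => ?_) hR.cov.1
  have hc' : c = 12 ∨ c = 8 := by simpa using hc
  rcases hc' with rfl | rfl
  · exact off_te6_12 h.cond hF hR.cov.2 hr
  · exact off_te6_8 h.cond hF hR.cov.2 hr

end Cfsg.Agent.H190.Odd
end
end
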